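import Mathlib.NumberTheory.LucasLehmer
import Mathlib.Data.Nat.GCD.Basic
import Mathlib.Tactic.Ring
import Mathlib.Tactic.Linarith

/-!
# The arithmetic of companions

The size of the chord of an outer involution from divisibility, and the incompatibility of the counts at the
three involutions of a four-group unless all are unitary.
-/

set_option autoImplicit false

namespace Cfsg.Agent.GoodInvol

/-- A common divisor of `2 ^ k + 1` and `2 ^ (2 * m) - 1` divides `2 ^ gcd k m + 1`. -/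
theorem dvd_gcd_add_one {d k m : ℕ} (hk0 : 0 < k) (h1 : d ∣ 2 ^ k + 1) (h2 : d ∣ 2 ^ (2 * m) - 1) :
    d ∣ 2 ^ Nat.gcd k m + 1 := by
  have hk : 2 ^ (2 * k) - 1 = (2 ^ k + 1) * (2 ^ k - 1) := by
    rw [two_mul, pow_add, ← pow_two]; simpa using Nat.sq_sub_sq (2 ^ k) 1
  have h3 : d ∣ 2 ^ (2 * Nat.gcd k m) - 1 := by
    rw [← Nat.gcd_mul_left, ← Nat.pow_sub_one_gcd_pow_sub_one]
    exact Nat.dvd_gcd (hk ▸ h1.trans (dvd_mul_right _ _)) h2
  have hg : 2 ^ (2 * Nat.gcd k m) - 1 = (2 ^ Nat.gcd k m + 1) * (2 ^ Nat.gcd k m - 1) := by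
    rw [two_mul, pow_add, ← pow_two]; simpa using Nat.sq_sub_sq (2 ^ Nat.gcd k m) 1
  rw [hg] at h3
  refine Nat.Coprime.dvd_of_dvd_mul_right ?_ h3
  have h4 : 2 ^ Nat.gcd k m - 1 ∣ 2 ^ k - 1 := Nat.pow_sub_one_dvd_pow_sub_one 2 (Nat.gcd_dvd_left k m)
  refine Nat.coprime_of_dvd fun p hp hpd hpg => ?_
  have hp1 := hpd.trans h1
  have hp2 := hpg.trans h4
  have h5 : p ∣ 2 ^ k + 1 - (2 ^ k - 1) := Nat.dvd_sub hp1 hp2
  have hpos : 1 ≤ 2 ^ k := Nat.one_le_pow _ _ two_pos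
  rw [show 2 ^ k + 1 - (2 ^ k - 1) = 2 by omega] at h5
  have h6 : p = 2 := (Nat.prime_dvd_prime_iff_eq hp Nat.prime_two).1 h5
  subst h6
  have h8 : Even (2 ^ k) := Nat.even_pow.2 ⟨even_two, by omega⟩
  obtain ⟨c, hc⟩ := h8
  omega

theorem coprime_pow_add_one {k : ℕ} (hk : 0 < k) (i : ℕ) : (2 ^ k + 1).Coprime (2 ^ i) :=
  Nat.Coprime.pow_right _ (Nat.coprime_two_right.2 (Even.add_one (Nat.even_pow.2 ⟨even_two, by omega⟩)))

theorem eq_of_dvd_le {g k : ℕ} (hg : g ∣ k) (hk : 0 < k) : g = k ∨ 2 * g = k ∨ 3 * g ≤ k := by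
  obtain ⟨j, rfl⟩ := hg
  rcases j with _ | _ | _ | j
  · omega
  · left; ring
  · right; left; ring
  · right; right; nlinarith

/-- The chord in the linear case. -/
theorem chord_linear {r k : ℕ} (hr : 1 ≤ r) (hlo : r ≤ 2 * k) (hhi : k < r)
    (hd : 2 ^ k + 1 ∣ 2 ^ r * (2 ^ (2 * r) - 1)) : 2 * k = r := by
  have hk : 0 < k := by omega
  have h1 := (coprime_pow_add_one hk r).dvd_of_dvd_mul_left hd
  have h2 := Nat.le_of_dvd (by positivity) (dvd_gcd_add_one hk (dvd_refl _) h1)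
  have h3 : k ≤ Nat.gcd k r := (Nat.pow_le_pow_iff_right (by norm_num : 1 < 2)).1 (by omega)
  have h4 : Nat.gcd k r = k := le_antisymm (Nat.le_of_dvd hk (Nat.gcd_dvd_left k r)) h3
  obtain ⟨j, rfl⟩ : k ∣ r := h4 ▸ Nat.gcd_dvd_right k r
  have hj1 : 1 < j := by
    by_contra hj
    have : k * j ≤ k * 1 := Nat.mul_le_mul_left k (by omega)
    omega
  have hj2 : j ≤ 2 := by
    by_contra hj
    have : k * 3 ≤ k * j := Nat.mul_le_mul_left k (by omega)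
    omega
  rw [show j = 2 by omega, mul_comm]

/-- The chord in the unitary case. -/
theorem chord_unitary {r k : ℕ} (hr : 2 ≤ r) (hlo : r ≤ k) (hhi : k < 3 * r)
    (hd : 2 ^ k + 1 ∣ (2 ^ r) ^ 3 * ((2 ^ (3 * r) + 1) * (2 ^ (2 * r) - 1))) : k = r := by
  have hk : 0 < k := by omega
  rw [← pow_mul] at hd
  have hd' := (coprime_pow_add_one hk (r * 3)).dvd_of_dvd_mul_left hd
  obtain ⟨d1, d2, h1, h2, e⟩ := exists_dvd_and_dvd_of_dvd_mul hd'
  have e1 : d1 ∣ 2 ^ k + 1 := Dvd.intro d2 e.symm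
  have e2 : d2 ∣ 2 ^ k + 1 := Dvd.intro_left d1 e.symm
  have hq : d1 ∣ 2 ^ (2 * (3 * r)) - 1 := by
    refine h1.trans ⟨2 ^ (3 * r) - 1, ?_⟩
    rw [two_mul, pow_add, ← pow_two]; simpa using Nat.sq_sub_sq (2 ^ (3 * r)) 1
  have b1 := dvd_gcd_add_one hk e1 hq
  have b2 := dvd_gcd_add_one hk e2 h2
  have c2 := Nat.le_of_dvd (by positivity) b2
  set g := Nat.gcd k (3 * r) with hg
  set g2 := Nat.gcd k r with hg2
  have hg2g : g2 ≤ g := Nat.le_of_dvd (Nat.gcd_pos_of_pos_left _ hk)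
    (Nat.gcd_dvd_gcd_of_dvd_right k (dvd_mul_left r 3))
  rcases eq_of_dvd_le (Nat.gcd_dvd_left k (3 * r)) hk with hgk | hgk | hgk
  · -- `k` divides `3 * r`
    obtain ⟨j, hj⟩ : k ∣ 3 * r := hgk ▸ Nat.gcd_dvd_right k (3 * r)
    have hj1 : 1 < j := by
      by_contra h
      have : k * j ≤ k * 1 := Nat.mul_le_mul_left k (by omega)
      omega
    have hj3 : j ≤ 3 := by
      by_contra h
      have : k * 4 ≤ k * j := Nat.mul_le_mul_left k (by omega)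
      omega
    rcases (show j = 2 ∨ j = 3 by omega) with rfl | rfl
    swap
    · omega
    -- then `2 ^ k + 1` is prime to `2 ^ (3 * r) + 1`
    have hd1 : d1 = 1 := by
      have hX : 2 ^ (3 * r) + 1 = (2 ^ k + 1) * (2 ^ k - 1) + 2 := by
        have hp : 1 ≤ 2 ^ k := Nat.one_le_pow _ _ two_pos
        obtain ⟨c, hc⟩ := Nat.exists_eq_add_of_le hp
        rw [hj, mul_comm k 2, two_mul, pow_add, hc, Nat.add_sub_cancel_left]
        ring
      have h21 : d1 ∣ 2 := (Nat.dvd_add_right (e1.trans (dvd_mul_right _ _))).1 (hX ▸ h1)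
      exact Nat.eq_one_of_dvd_coprimes (coprime_pow_add_one hk 1) e1 (by simpa using h21)
    rw [hd1, one_mul] at e
    have h9 : k ≤ g2 := (Nat.pow_le_pow_iff_right (by norm_num : 1 < 2)).1 (by omega)
    have h10 : g2 ≤ r := Nat.le_of_dvd (by omega) (Nat.gcd_dvd_right k r)
    omega
  · have hd1 : d1 = 1 := by
      have hX : 2 ^ k + 1 = (2 ^ g + 1) * (2 ^ g - 1) + 2 := by
        have hp : 1 ≤ 2 ^ g := Nat.one_le_pow _ _ two_pos
        obtain ⟨c, hc⟩ := Nat.exists_eq_add_of_le hp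
        rw [← hgk, two_mul, pow_add, hc, Nat.add_sub_cancel_left]
        ring
      have h21 : d1 ∣ 2 := (Nat.dvd_add_right (b1.trans (dvd_mul_right _ _))).1 (hX ▸ e1)
      exact Nat.eq_one_of_dvd_coprimes (coprime_pow_add_one hk 1) e1 (by simpa using h21)
    rw [hd1, one_mul] at e
    have h9 : k ≤ g2 := (Nat.pow_le_pow_iff_right (by norm_num : 1 < 2)).1 (by omega)
    omega
  · exfalso
    have c1 := Nat.le_of_dvd (by positivity) b1
    have h5 : 2 ^ g2 ≤ 2 ^ g := Nat.pow_le_pow_right two_pos hg2g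
    have h6 : 2 ^ k + 1 ≤ (2 ^ g + 1) * (2 ^ g + 1) := by
      rw [e]; exact Nat.mul_le_mul c1 (c2.trans (by omega))
    have h7 : (2 ^ g) ^ 3 ≤ 2 ^ k := by
      rw [← pow_mul]; exact Nat.pow_le_pow_right two_pos (by omega)
    have hgpos : 0 < g := Nat.gcd_pos_of_pos_left _ hk
    rcases (show g = 1 ∨ 2 ≤ g by omega) with h8 | h8
    · rw [h8] at h6
      rcases (show k = 3 ∨ 4 ≤ k by omega) with rfl | h9
      · rw [hg] at h8
        simp at h8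
      · have : 2 ^ 4 ≤ 2 ^ k := Nat.pow_le_pow_right two_pos h9
        norm_num at h6 this
        omega
    · have h9 : 4 ≤ 2 ^ g := (Nat.pow_le_pow_right two_pos h8 : 2 ^ 2 ≤ 2 ^ g)
      generalize 2 ^ g = x at h6 h7 h9
      generalize 2 ^ k = y at h6 h7
      nlinarith [Nat.mul_le_mul_right (x * x) h9, Nat.mul_le_mul_right x h9]

/-- Among three kinds, only the unitary ones are compatible. -/
theorem companion_kinds {q M1 M2 M3 c1 c2 c3 f1 f2 f3 e1 e2 e3 : ℕ} (hq : 2 ≤ q) (heven : Even q)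
    (he1 : e1 = 2 ∧ c1 = q + 1 ∨ e1 = 3 ∧ c1 = 1 ∧ 4 ≤ q)
    (he2 : e2 = 2 ∧ c2 = q + 1 ∨ e2 = 3 ∧ c2 = 1 ∧ 4 ≤ q)
    (he3 : e3 = 2 ∧ c3 = q + 1 ∨ e3 = 3 ∧ c3 = 1 ∧ 4 ≤ q)
    (hf1 : f1 = q ^ e1 + 1) (hf2 : f2 = q ^ e2 + 1) (hf3 : f3 = q ^ e3 + 1)
    (h12 : f1 + M1 = f2 + M2) (h23 : f2 + M2 = f3 + M3)
    (g1 : M1 * (c2 * c3) = f1 * q ^ e1 * c1 * (q - 1))
    (g2 : M2 * (c3 * c1) = f2 * q ^ e2 * c2 * (q - 1))
    (g3 : M3 * (c1 * c2) = f3 * q ^ e3 * c3 * (q - 1)) : e1 = 3 ∧ e2 = 3 ∧ e3 = 3 := by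
  obtain ⟨p, rfl⟩ := Nat.exists_eq_add_of_le (show 1 ≤ q by omega)
  rw [Nat.add_sub_cancel_left] at g1 g2 g3
  have hodd : Odd (1 + p + 1) := heven.add_one
  -- three linear kinds
  have lll : ∀ M : ℕ, M * ((1 + p + 1) * (1 + p + 1)) = ((1 + p) ^ 2 + 1) * (1 + p) ^ 2 * (1 + p + 1) * p →
      False := by
    intro M hM
    have h1 : M * (1 + p + 1) = ((1 + p) ^ 2 + 1) * (1 + p) ^ 2 * p :=
      Nat.eq_of_mul_eq_mul_right (show 0 < 1 + p + 1 by omega) (by rw [mul_assoc]; linarith)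
    have h2 : ((1 + p + 1 : ℕ) : ℤ) ∣ 4 := by
      have h3 : ((M : ℤ) * (1 + p + 1)) = ((1 + p) ^ 2 + 1) * (1 + p) ^ 2 * p := by exact_mod_cast h1
      set x : ℤ := 1 + p + 1 with hx
      have hp : (p : ℤ) = x - 2 := by rw [hx]; ring
      push_cast
      refine ⟨-((M : ℤ) - (x ^ 4 - 6 * x ^ 3 + 15 * x ^ 2 - 20 * x + 14)), ?_⟩
      rw [hp] at h3
      linear_combination h3
    have h4 : (1 + p + 1) ∣ 4 := by exact_mod_cast h2
    have h5 := Nat.le_of_dvd (by norm_num) h4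
    have hp2 : p ≤ 2 := by omega
    obtain ⟨c, hc⟩ := hodd
    interval_cases p <;> omega
  -- a unitary kind with two linear ones
  have llu : ∀ M : ℕ, 4 ≤ 1 + p → M * ((1 + p + 1) * (1 + p + 1)) = ((1 + p) ^ 3 + 1) * (1 + p) ^ 3 * 1 * p →
      False := by
    intro M hp4 hM
    set x : ℤ := 1 + p + 1 with hx
    have hp : (p : ℤ) = x - 2 := by rw [hx]; ring
    have h3 : (M : ℤ) * (x * x) = ((1 + p) ^ 3 + 1) * (1 + p) ^ 3 * p := by
      rw [hx]; simp only [mul_one] at hM; exact_mod_cast hM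
    rw [hp] at h3
    have h4 : (M : ℤ) * x = (x ^ 2 - 3 * x + 3) * (x - 1) ^ 3 * (x - 2) :=
      mul_right_cancel₀ (show x ≠ 0 by rw [hx]; positivity) (by linear_combination h3)
    have h2 : x ∣ 6 := ⟨(M : ℤ) - (x ^ 5 - 8 * x ^ 4 + 27 * x ^ 3 - 49 * x ^ 2 + 50 * x - 27), by linear_combination (-1 : ℤ) * h4⟩
    have h5 : (1 + p + 1) ∣ 6 := by
      rw [hx] at h2; exact_mod_cast h2
    have h6 := Nat.le_of_dvd (by norm_num) h5
    have hp4' : p ≤ 4 := by omega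
    obtain ⟨c, hc⟩ := hodd
    interval_cases p <;> omega
  -- a linear kind with two unitary ones
  have luu : ∀ M M' : ℕ, 4 ≤ 1 + p → ((1 + p) ^ 2 + 1) + M = ((1 + p) ^ 3 + 1) + M' →
      M * (1 * 1) = ((1 + p) ^ 2 + 1) * (1 + p) ^ 2 * (1 + p + 1) * p →
      M' * (1 + p + 1) = ((1 + p) ^ 3 + 1) * (1 + p) ^ 3 * 1 * p → False := by
    intro M M' hp4 hn hM hM'
    simp only [mul_one] at hM hM'
    subst hM
    have h1 : ((M' : ℤ)) * (1 + p + 1) = ((1 + p) ^ 3 + 1) * (1 + p) ^ 3 * p := by exact_mod_cast hM'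
    have h2 : ((1 + p : ℤ) ^ 2 + 1) + ((1 + p : ℤ) ^ 2 + 1) * (1 + p) ^ 2 * (1 + p + 1) * p =
        ((1 + p) ^ 3 + 1) + (M' : ℤ) := by exact_mod_cast hn
    have h3 : (2 : ℤ) * (1 + p) ^ 4 * ((1 + p) + 1) = 2 * (1 + p) ^ 5 * ((1 + p) + 1) := by
      linear_combination (-1 : ℤ) * h1 - ((1 : ℤ) + p + 1) * h2
    have h4' : (2 : ℤ) * (((1 : ℤ) + p) ^ 4 * ((1 + p) + 1) * (p : ℤ)) = 0 := by linear_combination -h3
    have h4 : ((1 : ℤ) + p) ^ 4 * ((1 + p) + 1) * (p : ℤ) = 0 :=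
      (mul_eq_zero.1 h4').resolve_left two_ne_zero
    have h5 : (0 : ℤ) < ((1 : ℤ) + p) ^ 4 * ((1 + p) + 1) := by positivity
    have : (p : ℤ) = 0 := (mul_eq_zero.1 h4).resolve_left h5.ne'
    omega
  rcases he1 with ⟨rfl, rfl⟩ | ⟨rfl, rfl, hq1⟩ <;> rcases he2 with ⟨rfl, rfl⟩ | ⟨rfl, rfl, hq2⟩ <;>
    rcases he3 with ⟨rfl, rfl⟩ | ⟨rfl, rfl, hq3⟩ <;> subst hf1 hf2 hf3
  · exact (lll M1 g1).elim
  · exact (llu M3 hq3 g3).elim
  · exact (llu M2 hq2 g2).elim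
  · exact (luu M1 M2 hq2 h12 g1 (by rw [one_mul] at g2; exact g2)).elim
  · exact (llu M1 hq1 g1).elim
  · exact (luu M2 M1 hq1 h12.symm g2 (by rw [mul_one] at g1; exact g1)).elim
  · exact (luu M3 M1 hq1 (h12.trans h23).symm g3 (by rw [one_mul] at g1; exact g1)).elim
  · exact ⟨rfl, rfl, rfl⟩

end Cfsg.Agent.GoodInvol
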