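import Cfsg.Agent.Lib.GoodInvol.BenderCard
import Cfsg.Agent.Lib.GoodInvol.Outer

/-!
# The kinds of Bender groups as far as outer involutions see them
-/

set_option autoImplicit false
set_option linter.style.haveILetI false
set_option linter.unusedSectionVars false

namespace Cfsg.Agent.GoodInvol

open Subgroup

universe u v

/-- Linear or unitary over a field of `2 ^ r` elements: the Sylow 2-subgroup has order `2 ^ (e * r)` and a normal
subgroup of order `2 ^ ε` containing all squares. -/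
structure ChordKind (L : Type u) [Group L] (r e ε : ℕ) : Prop where
  two_le : 2 ≤ r
  kind : (e = 1 ∧ ε = 0 ∧ Nat.card L ∣ 2 ^ r * (2 ^ (2 * r) - 1)) ∨
    (e = 3 ∧ ε = r ∧ Nat.card L ∣ (2 ^ r) ^ 3 * ((2 ^ (3 * r) + 1) * (2 ^ (2 * r) - 1)))
  sylow : ∀ P : Sylow 2 L, Nat.card P = 2 ^ (e * r) ∧ {x : L | x ∈ (P : Subgroup L) ∧ x * x = 1}.ncard = 2 ^ r ∧
    ∃ E : Subgroup L, E ≤ P ∧ Nat.card E = 2 ^ ε ∧ (∀ x ∈ (P : Subgroup L), x * x ∈ E) ∧
      (e = 1 → E = ⊥) ∧ (e = 3 → ∀ x : L, x ∈ E ↔ x ∈ (P : Subgroup L) ∧ x * x = 1)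

theorem ChordKind.congr {L : Type u} {K : Type v} [Group L] [Group K] [Finite L] {r e ε : ℕ} (f : L ≃* K)
    (hK : ChordKind K r e ε) : ChordKind L r e ε where
  two_le := hK.two_le
  kind := by rw [Nat.card_congr f.toEquiv]; exact hK.kind
  sylow P := by
    set P' := P.mapSurjective (f := f.toMonoidHom) f.surjective with hP'
    have hP : (P' : Subgroup K) = (P : Subgroup L).map f.toMonoidHom := rfl
    obtain ⟨h1, h2, E, hE, hEc, hsq, he1, he3⟩ := hK.sylow P'
    rw [show Nat.card P' = Nat.card P from card_map_of_injective f.injective] at h1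
    have hm : ∀ y : L, f y ∈ (P' : Subgroup K) ↔ y ∈ (P : Subgroup L) := fun y => by
      rw [hP]
      exact ⟨fun ⟨z, hz, e⟩ => f.injective e ▸ hz, fun hy => ⟨y, hy, rfl⟩⟩
    refine ⟨h1, ?_, E.comap f.toMonoidHom, fun y hy => (hm y).1 (hE hy), ?_,
      fun x hx => by show f (x * x) ∈ E; rw [map_mul]; exact hsq _ ((hm x).2 hx), fun h => ?_, fun h x => ?_⟩
    · rw [← h2, ← Set.ncard_image_of_injective _ f.injective]
      congr 1
      ext y
      constructor
      · rintro ⟨x, ⟨hxP, hx⟩, rfl⟩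
        exact ⟨(hm x).2 hxP, by rw [← map_mul, hx, map_one]⟩
      · rintro ⟨hy, hy2⟩
        obtain ⟨x, rfl⟩ := f.surjective y
        exact ⟨x, ⟨(hm x).1 hy, f.injective ((map_mul f x x).trans (hy2.trans (map_one f).symm))⟩, rfl⟩
    · rw [comap_equiv_eq_map_symm', card_map_of_injective (f := f.symm.toMonoidHom) f.symm.injective, hEc]
    · rw [he1 h, MonoidHom.comap_bot, MonoidHom.ker_eq_bot_iff]
      exact f.injective
    · show f x ∈ E ↔ _
      rw [he3 h, hm, ← map_mul, ← map_one f, f.injective.eq_iff]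

/-- All involutory automorphisms are inner. -/
def InnerInvol (L : Type u) [Group L] : Prop := ∀ a : MulAut L, a * a = 1 → a ∈ Inn L

theorem innerInvol_congr {L : Type u} {K : Type v} [Group L] [Group K] (e : L ≃* K) (hK : InnerInvol K) : InnerInvol L := by
  intro x hx
  obtain ⟨k, hk⟩ := hK (MulAut.congr e x) (by rw [← map_mul, hx, map_one])
  refine ⟨e.symm k, MulEquiv.ext fun z => ?_⟩
  have h := congrArg (fun f : MulAut K => e.symm (f (e z))) hk
  simp only [MulAut.conj_apply, map_mul, map_inv, MulEquiv.symm_apply_apply] at h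
  rw [MulAut.conj_apply, h]
  simp [MulAut.congr]

theorem innerInvol_of_odd {L : Type u} [Group L] (h : Odd (Nat.card (Out L))) : InnerInvol L := by
  intro x hx
  haveI : Finite (Out L) := Nat.finite_of_card_ne_zero h.pos.ne'
  have h2 : orderOf (x : Out L) ∣ 2 := orderOf_dvd_of_pow_eq_one (by
    rw [pow_two, ← QuotientGroup.mk_mul, hx, QuotientGroup.mk_one])
  exact (QuotientGroup.eq_one_iff x).1 (orderOf_eq_one_iff.1
    (Nat.eq_one_of_dvd_coprimes (Nat.coprime_two_left.2 h) h2 (orderOf_dvd_natCard _)))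

theorem chordKind_psu {F : Type} [Field F] [Fintype F] {n : ℕ} (hn : 2 ≤ n)
    (hF : Fintype.card F = (2 ^ n) ^ 2) : ChordKind (Cfsg.PSU 3 F (2 ^ n)) n 3 n := by
  classical
  obtain ⟨_, σ, _, hne, hσ, hq⟩ := SU3Sylow.setup (by omega : 1 ≤ n) hF
  refine ⟨hn, Or.inr ⟨rfl, rfl, ?_⟩, fun P => ?_⟩
  · refine (Subgroup.card_quotient_dvd_card _).trans ?_
    rw [SU3Sylow.card_SU3 hne hσ hq, mul_comm ((2 ^ n) ^ 2 - 1), show 3 * n = n * 3 by ring,
      show 2 * n = n * 2 by ring, pow_mul, pow_mul]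
  · obtain ⟨h1, h2⟩ := (params_psu hn hF).sylow P
    obtain ⟨f⟩ := SU3Sylow.sylow_PSU_equiv hne (by omega) hσ hq P
    let Z : Subgroup (SU3Sylow.Heis σ) :=
      { carrier := {y | y.a = 0}
        one_mem' := rfl
        mul_mem' := fun {a b} ha hb => by
          show (a * b).a = 0
          rw [SU3Sylow.Heis.mul_a, ha, hb, add_zero]
        inv_mem' := fun {a} ha => ha }
    set E : Subgroup (Cfsg.PSU 3 F (2 ^ n)) := (Z.comap f.toMonoidHom).map (P : Subgroup _).subtype with hE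
    have hmem : ∀ x : Cfsg.PSU 3 F (2 ^ n), x ∈ E ↔ x ∈ (P : Subgroup (Cfsg.PSU 3 F (2 ^ n))) ∧ x * x = 1 := by
      intro x
      constructor
      · rintro ⟨y, hy, rfl⟩
        refine ⟨y.2, congrArg Subtype.val (show y * y = 1 from f.injective ?_)⟩
        rw [map_mul, map_one]
        exact (SU3Sylow.Heis.mul_self_eq_one_iff _).2 hy
      · rintro ⟨hxP, hx⟩
        refine ⟨⟨x, hxP⟩, (SU3Sylow.Heis.mul_self_eq_one_iff (f ⟨x, hxP⟩)).1 ?_, rfl⟩
        rw [← map_mul, show (⟨x, hxP⟩ : (P : Subgroup (Cfsg.PSU 3 F (2 ^ n)))) * ⟨x, hxP⟩ = 1 from Subtype.ext hx,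
          map_one]
    refine ⟨h1, h2, E, map_subtype_le _, ?_, fun x hx => ?_, fun h => absurd h (by norm_num), fun _ => hmem⟩
    · refine Eq.trans ?_ h2
      rw [show Nat.card E = (E : Set (Cfsg.PSU 3 F (2 ^ n))).ncard from Nat.card_coe_set_eq _]
      congr 1
      exact Set.ext hmem
    · refine (hmem _).2 ⟨mul_mem hx hx, congrArg Subtype.val (show
        ((⟨x, hx⟩ : (P : Subgroup (Cfsg.PSU 3 F (2 ^ n)))) * ⟨x, hx⟩) * (⟨x, hx⟩ * ⟨x, hx⟩) = 1 from f.injective ?_)⟩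
      rw [map_mul, map_mul, map_one, SU3Sylow.Heis.mul_self_eq_one_iff, SU3Sylow.Heis.mul_a]
      exact CharTwo.add_self_eq_zero _

/-- A Bender group is of one of the kinds or has only inner involutory automorphisms. -/
theorem exists_chordKind {L : Type u} [Group L] [Finite L] (hL : SEBender.IsBender L) :
    (∃ r e ε, ChordKind L r e ε) ∨ InnerInvol L := by
  haveI : Fact (Nat.Prime 2) := ⟨Nat.prime_two⟩
  rcases hL with ⟨F, _, _, ⟨n, hn, hF⟩, ⟨f⟩⟩ | ⟨F, _, _, m, hm, hF, ⟨f⟩⟩ | ⟨F, _, _, n, hn, hF, ⟨f⟩⟩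
  · left
    haveI : CharP F 2 := charP_of_card_eq_prime_pow hF
    obtain ⟨g⟩ := SEMain.psl_equiv_sl (F := F)
    have hP := (params_sl_two hn hF).congr (f.trans g)
    refine ⟨n, 1, 0, hn, Or.inl ⟨rfl, rfl, ?_⟩, fun P => ?_⟩
    · rcases hP.dvd with ⟨-, h⟩ | ⟨h, -⟩ | ⟨h, -⟩
      exacts [h, absurd h (by norm_num), absurd h (by norm_num)]
    · obtain ⟨h1, h2⟩ := hP.sylow P
      refine ⟨h1, h2, ⊥, bot_le, by simp, fun x hx => ?_, fun _ => rfl, fun h => absurd h (by norm_num)⟩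
      have he : {y : L | y ∈ (P : Subgroup L) ∧ y * y = 1} = (P : Set L) := by
        refine Set.eq_of_subset_of_ncard_le (fun y hy => hy.1) (le_of_eq ?_) (Set.toFinite _)
        rw [h2, ← Nat.card_coe_set_eq]
        exact h1.trans (by rw [one_mul])
      have hx' : x ∈ {y : L | y ∈ (P : Subgroup L) ∧ y * y = 1} := he.symm ▸ hx
      exact mem_bot.2 hx'.2
  · exact Or.inr (innerInvol_congr f (innerInvol_of_odd (by rw [S2126.result hm hF]; exact ⟨m, rfl⟩)))
  · exact Or.inl ⟨n, 3, n, (chordKind_psu hn hF).congr f⟩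

end Cfsg.Agent.GoodInvol
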