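import Cfsg.Agent.Lib.GoodInvol.Companion.Counts
import Cfsg.Agent.Lib.GoodInvol.Contain

/-!
# Companions

An involution `t` commuting with an involution `u`, fixing two of the points of `u` and moving another, exists only
if `u` has unitary type, and then `u` has one lift of each image at a moved point: `mu = kappa`, `nc = iota`.
-/

set_option autoImplicit false
set_option linter.style.haveILetI false
set_option linter.unusedSectionVars false

namespace Cfsg.Agent.GoodInvol

open Subgroup MulAction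

universe u

variable {G : Type u} [Group G] [Finite G] {Ω : Type u} [MulAction G Ω] [Finite Ω] [FaithfulSMul G Ω] {D : Set G}

theorem common_eq_mul {u t : G} (hu : u * u = 1) (p : Ω) : common D u (u * t) p = common D u t p := by
  ext d
  refine ⟨fun h => ⟨h.1, h.2.1, ?_⟩, fun h => ⟨h.1, h.2.1, h.2.1.mul_right h.2.2⟩⟩
  have := h.2.1.mul_right h.2.2
  rwa [← mul_assoc, hu, one_mul] at this

theorem common_comm (u t : G) (p : Ω) : common D u t p = common D t u p := by
  ext d; exact ⟨fun h => ⟨h.1, h.2.2, h.2.1⟩, fun h => ⟨h.1, h.2.2, h.2.1⟩⟩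

namespace Crit

variable (h : Crit D Ω) (hB : Below.{u} (Nat.card G)) (hgen : closure D = ⊤)
include h hB hgen

/-- The numbers at an ordered pair: `w` moves a point fixed by `v`. -/
theorem exists_side {v w : G} (hv : orderOf v = 2) (hvb : ¬ OneFix Ω v) (hw : orderOf w = 2)
    (hwb : ¬ OneFix Ω w) (hwvb : ¬ OneFix Ω (w * v)) (hvw : Commute v w) {a b : Ω} (hab : a ≠ b)
    (hva : v • a = a) (hvb' : v • b = b) (hwa : w • a = a) (hwb' : w • b = b)
    {z : Ω} (hvz : v • z = z) (hwz : w • z ≠ z) {x : Ω} (hwx : w • x ≠ x) {y : Ω} (hy : (w * v) • y ≠ y) {A : ℕ}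
    (hA : ∀ p : Ω, w • p = p → v • p = p → (common D w v p).ncard = A) :
    ∃ k e R : ℕ, Chord D Ω v w k e ∧ 0 < R ∧
      (dat D a).ncard * R ^ 2 = (csig D w x).ncard * (cdat D v a).ncard * (csig D (w * v) y).ncard ∧
      (2 ^ k - 1) * R = (if e = 2 then 2 ^ k + 1 else 1) * A := by
  obtain ⟨k, e, hC⟩ := h.exists_chord hB hgen hv hvb hw hvw hab hva hvb' hwa hwb' hvz hwz
  have hwv2 : orderOf (w * v) = 2 := by
    refine Invol.order_two_of_sq ?_ fun e1 => hwz ?_
    · rw [hvw.mul_mul_mul_comm, Invol.mul_self hw, Invol.mul_self hv, one_mul]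
    · rw [eq_inv_of_mul_eq_one_left e1, Invol.inv_self hv, hvz]
  set R := (sigCom D w v z).ncard with hR
  have key : ∀ s : Ω, v • s = s → w • s ≠ s → (dat D a).ncard * (sigCom D w v s).ncard ^ 2 =
      (csig D w x).ncard * (cdat D v a).ncard * (csig D (w * v) y).ncard := by
    intro s hvs hws
    have h1 := h.moved_count hw hv hvw.symm hvs hws
    rwa [h.card_dat s a, h.card_csig_eq hw hwb hws hwx, h.card_cdat_eq hv hvs hva,
      h.card_csig_eq hwv2 hwvb (x := s) (y := y) (by rwa [mul_smul, hvs]) hy] at h1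
  have hconst : ∀ s : Ω, v • s = s → w • s ≠ s → (sigCom D w v s).ncard = R := by
    intro s hvs hws
    have h1 := (key s hvs hws).trans (key z hvz hwz).symm
    exact Nat.pow_left_injective two_ne_zero (Nat.eq_of_mul_eq_mul_left (h.odd a).pos h1)
  have h2 := h.chord_double hB hgen hw hC hA hconst
  obtain ⟨j, hj⟩ : ∃ j, 2 ^ k = j + 2 := ⟨2 ^ k - 2, by
    have : 2 ≤ 2 ^ k := (Nat.pow_le_pow_right two_pos hC.pos : 2 ^ 1 ≤ 2 ^ k)
    omega⟩
  have h3 : (2 ^ k - 1) * R = (if e = 2 then 2 ^ k + 1 else 1) * A := by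
    rw [hj] at h2 ⊢
    rcases hC.kind with rfl | ⟨rfl, -, -⟩
    · rw [if_pos rfl]
      refine Nat.eq_of_mul_eq_mul_right (show 0 < j + 2 by omega) ?_
      rw [show j + 2 - 1 = j + 1 from rfl]
      rw [show (j + 2) ^ 2 - (j + 2) = (j + 1) * (j + 2) by rw [Nat.sub_eq_iff_eq_add (Nat.le_self_pow (by norm_num) _)]; ring] at h2
      linarith
    · rw [if_neg (by norm_num)]
      refine Nat.eq_of_mul_eq_mul_right (show 0 < (j + 3) * (j + 2) by positivity) ?_
      rw [show j + 2 - 1 = j + 1 from rfl]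
      rw [show (j + 2) ^ 3 - (j + 2) = (j + 1) * ((j + 3) * (j + 2)) by
        rw [Nat.sub_eq_iff_eq_add (Nat.le_self_pow (by norm_num) _)]; ring] at h2
      linarith
  have hApos : 0 < A := by
    rw [← hA a hwa hva]
    exact (h.exists_common hw hv hvw.symm hwa hva).ncard_pos
  refine ⟨k, e, R, hC, ?_, key z hvz hwz, h3⟩
  rcases Nat.eq_zero_or_pos R with hR0 | hR0
  · rw [hR0, mul_zero] at h3
    exfalso
    have hc : 0 < (if e = 2 then 2 ^ k + 1 else 1) := by split <;> omega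
    exact (mul_pos hc hApos).ne' h3.symm
  · exact hR0

/-- The count at one involution of the four-group. -/
theorem companion_global {v : G} (hv : orderOf v = 2) (hvb : ¬ OneFix Ω v) {a : Ω} (hva : v • a = a) {x : Ω}
    (hvx : v • x ≠ x) {q e c c' c'' A R R' R'' : ℕ} (hf : (fixSet Ω v).ncard = q ^ e + 1)
    (hA : 0 < A) (hμ : (csig D v x).ncard = R' * R'') (hP : (cdat D v a).ncard = A * R)
    (hR : (q - 1) * R = c * A) (hR' : (q - 1) * R' = c' * A) (hR'' : (q - 1) * R'' = c'' * A) :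
    (fixSet Ω v)ᶜ.ncard * (c' * c'') = (fixSet Ω v).ncard * q ^ e * c * (q - 1) := by
  have h1 := h.card_moved_eq hB hgen hv hvb hva hvx
  rw [hμ, hP, hf, Nat.add_sub_cancel] at h1
  rw [hf]
  refine Nat.eq_of_mul_eq_mul_right (mul_pos hA hA) ?_
  calc (fixSet Ω v)ᶜ.ncard * (c' * c'') * (A * A) = (fixSet Ω v)ᶜ.ncard * ((c' * A) * (c'' * A)) := by ring
    _ = (fixSet Ω v)ᶜ.ncard * (R' * R'') * ((q - 1) * (q - 1)) := by rw [← hR', ← hR'']; ring
    _ = (q ^ e + 1) * (A * ((q - 1) * R)) * q ^ e * (q - 1) := by rw [h1]; ring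
    _ = _ := by rw [hR]; ring

/-- **Companions.** -/
theorem companion {u t : G} (hu : orderOf u = 2) (ht : orderOf t = 2) (hut : Commute u t) {a b : Ω} (hab : a ≠ b)
    (hua : u • a = a) (hub : u • b = b) (hta : t • a = a) (htb : t • b = b) {z : Ω} (huz : u • z = z)
    (htz : t • z ≠ z) :
    ∃ k : ℕ, 2 ≤ k ∧ (fixSet Ω u).ncard = (2 ^ k) ^ 3 + 1 ∧
      (∀ (p : Ω) (T E : Subgroup G), u • p = p → T ≤ ptC u p → ESet D u p T E → Nat.card E = 2 ^ k) ∧
      ∀ x : Ω, u • x ≠ x → ∀ p : Ω, u • p = p →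
        (csig D u x).ncard * (2 ^ k - 1) = (cdat D u p).ncard := by
  have hne : u ≠ t := fun e => htz (e ▸ huz)
  have hutc : Commute u (u * t) := (Commute.refl u).mul_right hut
  have htu : t * u = u * t := hut.symm.eq
  have hutu : u * (u * t) = t := by rw [← mul_assoc, Invol.mul_self hu, one_mul]
  have hw2 : orderOf (u * t) = 2 := by
    refine Invol.order_two_of_sq ?_ fun e => hne ?_
    · rw [hut.symm.mul_mul_mul_comm, Invol.mul_self hu, Invol.mul_self ht, one_mul]
    · rw [eq_inv_of_mul_eq_one_left e, Invol.inv_self ht]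
  have hwa : (u * t) • a = a := by rw [mul_smul, hta, hua]
  have hwb : (u * t) • b = b := by rw [mul_smul, htb, hub]
  have bad : ∀ v : G, v • a = a → v • b = b → ¬ OneFix Ω v := fun v h1 h2 hone => hab (hone a b h1 h2)
  have hub' := bad u hua hub
  have htb' := bad t hta htb
  have hwb' := bad (u * t) hwa hwb
  -- all move points of the others
  have hwz : (u * t) • z ≠ z := fun e => htz (by
    have := congrArg (u • ·) e
    simpa [← mul_smul, ← mul_assoc, Invol.mul_self hu, huz] using this)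
  obtain ⟨z1, htz1, huz1⟩ : ∃ z1, t • z1 = z1 ∧ u • z1 ≠ z1 := by
    by_contra! hall
    exact htz (h.fix_eq_of_subset hB hgen ht htb' hu hub' hut.symm hall z huz)
  obtain ⟨z2, hwz2, huz2⟩ : ∃ z2, (u * t) • z2 = z2 ∧ u • z2 ≠ z2 := by
    by_contra! hall
    exact hwz (h.fix_eq_of_subset hB hgen hw2 hwb' hu hub' hutc.symm hall z huz)
  -- the common number
  have hAconst : ∀ p : Ω, u • p = p → t • p = p → (common D u t p).ncard = (common D u t b).ncard := by
    intro p hup htp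
    by_cases hpb : p = b
    · rw [hpb]
    obtain ⟨a', hua', hta', hap, hab'⟩ : ∃ a', u • a' = a' ∧ t • a' = a' ∧ a' ≠ p ∧ True := by
      by_cases hpa : a = p
      · exact ⟨b, hub, htb, Ne.symm hpb, trivial⟩
      · exact ⟨a, hua, hta, hpa, trivial⟩
    have h1 := h.chord_count hu ht hut hne hap hua' hup hta' htp
    have h2 := h.chord_count hu ht hut hne hab hua hub hta htb
    have hwp : (u * t) • p = p := by rw [mul_smul, htp, hup]
    rw [h.card_dat a' a, h.card_cdat_eq hu hup hub, h.card_cdat_eq ht htp htb, h.card_cdat_eq hw2 hwp hwb,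
      ← h2] at h1
    exact Nat.pow_left_injective two_ne_zero (Nat.eq_of_mul_eq_mul_left (h.odd a).pos h1)
  set A := (common D u t b).ncard with hAdef
  -- the three sides
  obtain ⟨ku, eu, Ru, hCu, hRu, squ, hcu⟩ := h.exists_side hB hgen hu hub' ht htb' (htu.symm ▸ hwb') hut hab hua
    hub hta htb huz htz (x := z) htz (y := z) (htu.symm ▸ hwz) (A := A) fun p htp hup => by
      rw [common_comm]; exact hAconst p hup htp
  obtain ⟨kt, et, Rt, hCt, hRt, sqt, hct⟩ := h.exists_side hB hgen ht htb' hu hub' hwb' hut.symm hab hta htb hua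
    hub htz1 huz1 (x := z1) huz1 (y := z) hwz (A := A) hAconst
  obtain ⟨kw, ew, Rw, hCw, hRw, sqw, hcw⟩ := h.exists_side hB hgen hw2 hwb' hu hub' (hutu.symm ▸ htb') hutc.symm
    hab hwa hwb hua hub hwz2 huz2 (x := z1) huz1 (y := z) (hutu.symm ▸ htz) (A := A) fun p hup hwp => by
      rw [common_eq_mul (Invol.mul_self hu)]
      refine hAconst p hup ?_
      rw [← hutu, mul_smul, hwp, hup]
  rw [htu] at squ
  rw [hutu] at sqw
  -- the chord is common
  have hset : fixSet Ω (u * t) ∩ fixSet Ω u = fixSet Ω t ∩ fixSet Ω u := by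
    ext p
    show (u * t) • p = p ∧ u • p = p ↔ t • p = p ∧ u • p = p
    constructor
    · rintro ⟨h1, h2⟩; exact ⟨by rw [← hutu, mul_smul, h1, h2], h2⟩
    · rintro ⟨h1, h2⟩; exact ⟨by rw [mul_smul, h1, h2], h2⟩
  have hkt : ku = kt := Nat.pow_right_injective (le_refl 2) (Nat.add_right_cancel
    (by rw [← hCu.card_inter, ← hCt.card_inter, Set.inter_comm] : 2 ^ ku + 1 = 2 ^ kt + 1))
  have hkw : kt = kw := Nat.pow_right_injective (le_refl 2) (Nat.add_right_cancel
    (by rw [← hCt.card_inter, ← hCw.card_inter, hset] : 2 ^ kt + 1 = 2 ^ kw + 1))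
  subst hkt hkw
  set μu := (csig D u z1).ncard with hμu
  set μt := (csig D t z).ncard with hμt
  set μw := (csig D (u * t) z).ncard with hμw
  set Pu := (cdat D u a).ncard with hPu
  set Pt := (cdat D t a).ncard with hPt
  set Pw := (cdat D (u * t) a).ncard with hPw
  set m := (dat D a).ncard with hm
  have mu_eq : m = μu * Pu := (h.card_dat a z1).trans (h.card_dat_eq hB hgen hu hub' hua huz1)
  have mt_eq : m = μt * Pt := (h.card_dat a z).trans (h.card_dat_eq hB hgen ht htb' hta htz)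
  have mw_eq : m = μw * Pw := (h.card_dat a z).trans (h.card_dat_eq hB hgen hw2 hwb' hwa hwz)
  have hab2 : m * A ^ 2 = Pu * Pt * Pw := by
    have h1 := h.chord_count hu ht hut hne hab.symm hub hua htb hta
    rw [hAconst a hua hta, h.card_dat b a] at h1
    exact h1
  have hmpos : 0 < m := (h.odd a).pos
  have hApos : 0 < A := (h.exists_common hu ht hut hub htb).ncard_pos
  have sq : ∀ x y : ℕ, x ^ 2 = y ^ 2 → x = y := fun x y hxy => Nat.pow_left_injective two_ne_zero hxy
  have eμu : μu = Rt * Rw := by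
    refine sq _ _ (Nat.eq_of_mul_eq_mul_left (pow_pos hmpos 2) ?_)
    calc m ^ 2 * μu ^ 2 = (μt * Pt) * (μw * Pw) * μu ^ 2 := by rw [← mt_eq, ← mw_eq]; ring
      _ = (μu * Pt * μw) * (μu * Pw * μt) := by ring
      _ = _ := by rw [← sqt, ← sqw]; ring
  have eμt : μt = Ru * Rw := by
    refine sq _ _ (Nat.eq_of_mul_eq_mul_left (pow_pos hmpos 2) ?_)
    calc m ^ 2 * μt ^ 2 = (μu * Pu) * (μw * Pw) * μt ^ 2 := by rw [← mu_eq, ← mw_eq]; ring
      _ = (μt * Pu * μw) * (μu * Pw * μt) := by ring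
      _ = _ := by rw [← squ, ← sqw]; ring
  have eμw : μw = Ru * Rt := by
    refine sq _ _ (Nat.eq_of_mul_eq_mul_left (pow_pos hmpos 2) ?_)
    calc m ^ 2 * μw ^ 2 = (μu * Pu) * (μt * Pt) * μw ^ 2 := by rw [← mu_eq, ← mt_eq]; ring
      _ = (μu * Pt * μw) * (μt * Pu * μw) := by ring
      _ = _ := by rw [← sqt, ← squ]; ring
  have em : m = A * (Ru * Rt * Rw) := by
    refine sq _ _ (Nat.eq_of_mul_eq_mul_left hmpos ?_)
    calc m * m ^ 2 = (μu * Pu) * (μt * Pt) * (μw * Pw) := by rw [← mu_eq, ← mt_eq, ← mw_eq]; ring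
      _ = μu * μt * μw * (Pu * Pt * Pw) := by ring
      _ = _ := by rw [← hab2, eμu, eμt, eμw]; ring
  have ePu : Pu = A * Ru := by
    refine Nat.eq_of_mul_eq_mul_left (mul_pos hRt hRw) ?_
    rw [← eμu, ← mu_eq, em, eμu]; ring
  have ePt : Pt = A * Rt := by
    refine Nat.eq_of_mul_eq_mul_left (mul_pos hRu hRw) ?_
    rw [← eμt, ← mt_eq, em, eμt]; ring
  have ePw : Pw = A * Rw := by
    refine Nat.eq_of_mul_eq_mul_left (mul_pos hRu hRt) ?_
    rw [← eμw, ← mw_eq, em, eμw]; ring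
  have g1 := h.companion_global hB hgen hu hub' hua huz1 hCu.card_fix hApos eμu ePu hcu hct hcw
  have g2 := h.companion_global hB hgen ht htb' hta htz hCt.card_fix hApos (eμt.trans (mul_comm _ _)) ePt hct hcw hcu
  have g3 := h.companion_global hB hgen hw2 hwb' hwa hwz hCw.card_fix hApos eμw ePw hcw hcu hct
  have kinds : ∀ {v w : G} {e : ℕ}, Chord D Ω v w ku e →
      e = 2 ∧ (if e = 2 then 2 ^ ku + 1 else 1) = 2 ^ ku + 1 ∨
        e = 3 ∧ (if e = 2 then 2 ^ ku + 1 else 1) = 1 ∧ 4 ≤ 2 ^ ku := fun {v w e} hC => by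
    rcases hC.kind with rfl | ⟨rfl, h2, -⟩
    · exact Or.inl ⟨rfl, if_pos rfl⟩
    · exact Or.inr ⟨rfl, if_neg (by norm_num), (Nat.pow_le_pow_right two_pos h2 : 2 ^ 2 ≤ 2 ^ ku)⟩
  have hn : ∀ v : G, (fixSet Ω v).ncard + (fixSet Ω v)ᶜ.ncard = Nat.card Ω := fun v =>
    Set.ncard_add_ncard_compl _
  have hk2 : 2 ≤ 2 ^ ku := (Nat.pow_le_pow_right two_pos hCu.pos : 2 ^ 1 ≤ 2 ^ ku)
  obtain ⟨rfl, rfl, rfl⟩ := companion_kinds hk2 (Nat.even_pow.2 ⟨even_two, by have := hCu.pos; omega⟩)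
    (kinds hCu) (kinds hCt) (kinds hCw) hCu.card_fix hCt.card_fix hCw.card_fix ((hn u).trans (hn t).symm)
    ((hn t).trans (hn (u * t)).symm) g1 g2 g3
  obtain ⟨-, hk, hE⟩ := hCu.kind.resolve_left (by norm_num)
  refine ⟨ku, hk, hCu.card_fix, hE, fun x hx p hp => ?_⟩
  rw [if_neg (by norm_num), one_mul] at hcu hct hcw
  rw [h.card_csig_eq hu hub' hx huz1, h.card_cdat_eq hu hp hua, ← hμu, ← hPu, eμu, ePu,
    show Rt * Rw * (2 ^ ku - 1) = Rt * ((2 ^ ku - 1) * Rw) by ring, hcw, mul_comm]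
  congr 1
  exact Nat.eq_of_mul_eq_mul_left (by omega : 0 < 2 ^ ku - 1) (hct.trans hcu.symm)

/-- An involution with a companion has one centre for each point of the orbit of its kernel. -/
theorem companion_count {u t : G} (hu : orderOf u = 2) (ht : orderOf t = 2) (hut : Commute u t) {a b : Ω}
    (hab : a ≠ b) (hua : u • a = a) (hub : u • b = b) (hta : t • a = a) (htb : t • b = b) {z : Ω}
    (huz : u • z = z) (htz : t • z ≠ z) {T E : Subgroup G} (hT : T ≤ ptC u a) (hE : ESet D u a T E) :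
    (fixSet Ω u).ncard = Nat.card E ^ 3 + 1 ∧ 4 ≤ Nat.card E ∧
      ∀ x : Ω, u • x ≠ x → ∀ d ∈ cmem D u,
        (csig D u x).ncard = (kap D Ω u d).ncard ∧ (centres D u x).ncard = iota Ω u x := by
  obtain ⟨k, hk, hf, hEk, hμ⟩ := h.companion hB hgen hu ht hut hab hua hub hta htb huz htz
  have hEc := hEk a T E hua hT hE
  have h4 : 4 ≤ 2 ^ k := (Nat.pow_le_pow_right two_pos hk : 2 ^ 2 ≤ 2 ^ k)
  have hbad : ¬ OneFix Ω u := fun hone => hab (hone a b hua hub)
  refine ⟨by rw [hEc]; exact hf, by rw [hEc]; exact h4, fun x hx d hd => ?_⟩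
  have h1 : (csig D u x).ncard = (kap D Ω u d).ncard := by
    refine Nat.eq_of_mul_eq_mul_left (show 0 < 2 ^ k - 1 by omega) ?_
    have h2 := hμ x hx a hua
    rw [h.card_cdat_kap hB hgen hu hbad hua hE hT hd, hEc] at h2
    rw [mul_comm]; exact h2
  obtain ⟨kx, e1, e2, hkx, -, -, -⟩ := h.exists_centre_count hB hgen hu hbad hx hd
  refine ⟨h1, Nat.eq_of_mul_eq_mul_right hkx.pos ?_⟩
  rw [← e1, ← e2]; exact h1

/-- No companion in the linear case. -/
theorem companion_linear {u t : G} (hu : orderOf u = 2) (ht : orderOf t = 2) (hut : Commute u t) {a b : Ω}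
    (hab : a ≠ b) (hua : u • a = a) (hub : u • b = b) (hta : t • a = a) (htb : t • b = b) {T E : Subgroup G}
    (hT : T ≤ ptC u a) (hE : ESet D u a T E) (hlin : (fixSet Ω u).ncard = Nat.card E + 1) :
    ∀ z : Ω, u • z = z → t • z = z := by
  by_contra! hcon
  obtain ⟨z, huz, htz⟩ := hcon
  obtain ⟨hf, h4, -⟩ := h.companion_count hB hgen hu ht hut hab hua hub hta htb huz htz hT hE
  rw [hlin] at hf
  have : Nat.card E < Nat.card E ^ 3 := lt_self_pow₀ (by omega) (by norm_num)
  omega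

end Crit

end Cfsg.Agent.GoodInvol
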