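import Mathlib.GroupTheory.QuotientGroup.Basic
import Mathlib.GroupTheory.Index
import Mathlib.Algebra.Group.Subgroup.Map
import Mathlib.Algebra.Group.End
import Mathlib.Algebra.Group.Subgroup.Finite
import Mathlib.Tactic.Group
import Mathlib.Tactic.Ring

/-!
# An involutory automorphism with few fixed elements

If squares lie in a normal invariant subgroup `E`, then `|Q| ≤ |C|² |E|` for the fixed group `C`; in case of
equality every inverted element has the form `x⁻¹ σ x`.
-/

set_option autoImplicit false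
set_option linter.style.haveILetI false

namespace Cfsg.Agent.GoodInvol

open Subgroup

universe u

variable {Q : Type u} [Group Q]

/-- The fixed subgroup of an automorphism. -/
def fixedBy' (σ : MulAut Q) : Subgroup Q where
  carrier := {x | σ x = x}
  one_mem' := map_one σ
  mul_mem' := fun {a b} ha hb => by show σ (a * b) = a * b; rw [map_mul, ha, hb]
  inv_mem' := fun {a} ha => by show σ a⁻¹ = a⁻¹; rw [map_inv, ha]

theorem mem_fixedBy' {σ : MulAut Q} {x : Q} : x ∈ fixedBy' σ ↔ σ x = x := Iff.rfl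

variable [Finite Q]

theorem inverted_bound (σ : MulAut Q) (hσ : ∀ x, σ (σ x) = x) (E : Subgroup Q) [E.Normal]
    (hEσ : ∀ x ∈ E, σ x ∈ E) (hsq : ∀ x : Q, x * x ∈ E) :
    Nat.card Q ≤ Nat.card (fixedBy' σ) ^ 2 * Nat.card E ∧
      (Nat.card Q = Nat.card (fixedBy' σ) ^ 2 * Nat.card E → ∀ y, σ y = y⁻¹ → ∃ x, y = x⁻¹ * σ x) := by
  classical
  set π := QuotientGroup.mk' E with hπ
  have h2 : ∀ a : Q ⧸ E, a * a = 1 := fun a => by
    induction a using QuotientGroup.induction_on with
    | H x => exact (QuotientGroup.eq_one_iff _).2 (hsq x)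
  have hcomm : ∀ a b : Q ⧸ E, a * b = b * a := fun a b => by
    have h := h2 (a * b)
    calc a * b = (a * b)⁻¹ := (inv_eq_of_mul_eq_one_right h).symm
      _ = b * a := by rw [mul_inv_rev, inv_eq_of_mul_eq_one_right (h2 a), inv_eq_of_mul_eq_one_right (h2 b)]
  have hinv : ∀ a : Q ⧸ E, a⁻¹ = a := fun a => inv_eq_of_mul_eq_one_right (h2 a)
  let ψ : Q →* Q ⧸ E :=
    { toFun := fun x => π x * π (σ x)
      map_one' := by simp
      map_mul' := fun x y => by
        simp only [map_mul]
        rw [mul_assoc, mul_assoc, ← mul_assoc (π y), hcomm (π y), mul_assoc] }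
  have hψ : ∀ x, π (x⁻¹ * σ x) = ψ x := fun x => by
    show _ = π x * π (σ x)
    rw [map_mul, map_inv, hinv]
  -- the image of `ψ` lies in the image of its kernel
  have hrk : ψ.range ≤ ψ.ker.map π := by
    rintro _ ⟨x, rfl⟩
    refine ⟨x⁻¹ * σ x, MonoidHom.mem_ker.2 ?_, hψ x⟩
    show π (x⁻¹ * σ x) * π (σ (x⁻¹ * σ x)) = 1
    rw [map_mul σ, map_inv σ, hσ, map_mul, map_mul, map_inv π, map_inv π, hinv, hinv, hcomm (π (σ x)), h2]
  have hEk : E ≤ ψ.ker := fun x hx => MonoidHom.mem_ker.2 (by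
    show (x : Q ⧸ E) * (σ x : Q ⧸ E) = 1
    rw [(QuotientGroup.eq_one_iff x).2 hx, (QuotientGroup.eq_one_iff _).2 (hEσ x hx), mul_one])
  set R := ψ.range.comap π with hR
  have hRK : R ≤ ψ.ker := by
    intro x hx
    obtain ⟨y, hy, e⟩ := hrk hx
    rw [show x = y * (y⁻¹ * x) by group]
    exact mul_mem hy (hEk ((QuotientGroup.eq).1 e))
  have hRc : Nat.card R = Nat.card ψ.range * Nat.card E := by
    have h1 : R.index = ψ.range.index := index_comap_of_surjective _ (QuotientGroup.mk'_surjective E)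
    have h3 := R.card_mul_index
    rw [h1] at h3
    refine Nat.eq_of_mul_eq_mul_right (Nat.pos_of_ne_zero ψ.range.index_ne_zero_of_finite) ?_
    rw [h3, mul_right_comm, card_mul_index, ← index_eq_card, mul_comm, card_mul_index]
  have hK : Nat.card ψ.range * Nat.card ψ.ker = Nat.card Q := by
    rw [← index_ker, mul_comm, card_mul_index]
  have hle : Nat.card R ≤ Nat.card ψ.ker := card_le_of_le hRK
  -- the elements `x⁻¹ σ x`
  set C := fixedBy' σ with hC
  let g : Q → R := fun x => ⟨x⁻¹ * σ x, ⟨x, (hψ x).symm⟩⟩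
  have hg : ∀ x y, g x = g y ↔ y * x⁻¹ ∈ C := fun x y => by
    rw [mem_fixedBy', map_mul, map_inv, mul_inv_eq_iff_eq_mul]
    constructor
    · intro e
      have e' : x⁻¹ * σ x = y⁻¹ * σ y := congrArg Subtype.val e
      calc σ y = y * (y⁻¹ * σ y) := by group
        _ = _ := by rw [← e']; group
    · intro e
      refine Subtype.ext ?_
      show x⁻¹ * σ x = y⁻¹ * σ y
      rw [e]; group
  let f' : Q ⧸ C → R := Quotient.lift (fun x => g x⁻¹) (fun x y e => by
    refine (hg _ _).2 ?_
    rw [inv_inv]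
    have h := inv_mem (QuotientGroup.leftRel_apply.1 e)
    rwa [mul_inv_rev, inv_inv] at h)
  have hf' : Function.Injective f' := by
    intro a b
    induction a using QuotientGroup.induction_on with
    | H x =>
    induction b using QuotientGroup.induction_on with
    | H y =>
    intro e
    refine QuotientGroup.eq.2 ?_
    have h := inv_mem ((hg x⁻¹ y⁻¹).1 e)
    rwa [mul_inv_rev, inv_inv, inv_inv] at h
  have hidx : Nat.card (Q ⧸ C) ≤ Nat.card R := Nat.card_le_card_of_injective f' hf'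
  have hCQ : Nat.card (Q ⧸ C) * Nat.card C = Nat.card Q := by
    rw [← index_eq_card, mul_comm, card_mul_index]
  have hbound : Nat.card Q ≤ Nat.card C ^ 2 * Nat.card E ∧
      (Nat.card Q = Nat.card C ^ 2 * Nat.card E → Nat.card ψ.ker ≤ Nat.card R ∧ Nat.card R ≤ Nat.card (Q ⧸ C)) := by
    have e1 : Nat.card R * Nat.card R ≤ Nat.card Q * Nat.card E := by
      calc Nat.card R * Nat.card R ≤ Nat.card R * Nat.card ψ.ker := Nat.mul_le_mul_left _ hle
        _ = Nat.card Q * Nat.card E := by rw [hRc, ← hK]; ring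
    have e2 : Nat.card (Q ⧸ C) * Nat.card (Q ⧸ C) ≤ Nat.card R * Nat.card R := Nat.mul_le_mul hidx hidx
    have hQ : 0 < Nat.card Q := Nat.card_pos
    constructor
    · refine Nat.le_of_mul_le_mul_left ?_ hQ
      calc Nat.card Q * Nat.card Q = Nat.card (Q ⧸ C) * Nat.card (Q ⧸ C) * Nat.card C ^ 2 := by
            rw [← hCQ]; ring
        _ ≤ Nat.card Q * Nat.card E * Nat.card C ^ 2 := Nat.mul_le_mul_right _ (e2.trans e1)
        _ = _ := by ring
    · intro he
      have e3 : Nat.card (Q ⧸ C) * Nat.card (Q ⧸ C) = Nat.card Q * Nat.card E := by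
        refine Nat.eq_of_mul_eq_mul_right (pow_pos (Nat.card_pos (α := C)) 2) ?_
        calc _ = Nat.card Q * Nat.card Q := by rw [← hCQ]; ring
          _ = _ := by conv_lhs => arg 2; rw [he]
                      ring
      have e4 : Nat.card R * Nat.card R = Nat.card (Q ⧸ C) * Nat.card (Q ⧸ C) :=
        le_antisymm (e3 ▸ e1) e2
      have e5 : Nat.card R = Nat.card (Q ⧸ C) := Nat.mul_self_inj.1 e4
      refine ⟨Nat.le_of_mul_le_mul_left ?_ (Nat.card_pos (α := R)), e5.le⟩
      calc Nat.card R * Nat.card ψ.ker = Nat.card Q * Nat.card E := by rw [hRc, ← hK]; ring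
        _ = Nat.card R * Nat.card R := by rw [e4, e3]
        _ ≤ _ := le_rfl
  refine ⟨hbound.1, fun he y hy => ?_⟩
  obtain ⟨hb1, hb2⟩ := hbound.2 he
  have hRk : R = ψ.ker := eq_of_le_of_card_ge hRK hb1
  have hyk : y ∈ R := by
    rw [hRk, MonoidHom.mem_ker, ← hψ, hy]
    refine (QuotientGroup.eq_one_iff _).2 ?_
    rw [← mul_inv_rev]
    exact inv_mem (hsq y)
  obtain ⟨q, hq⟩ := ((Nat.bijective_iff_injective_and_card f').2 ⟨hf', le_antisymm hidx hb2⟩).2 ⟨y, hyk⟩
  induction q using QuotientGroup.induction_on with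
  | H x => exact ⟨x⁻¹, (congrArg Subtype.val hq).symm⟩

end Cfsg.Agent.GoodInvol
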