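import Cfsg.Agent.Lib.GoodInvol.FixParams
import Cfsg.Agent.Lib.GoodInvol.Companion.Kind
import Cfsg.Agent.Lib.GoodInvol.Companion.Inverted
import Cfsg.Agent.Lib.GoodInvol.Companion.Arith

/-!
# The chord of an outer involution

An involution commuting with `v` which fixes two points of `v` and moves another fixes `2 ^ k + 1` of them, and
`v` fixes `(2 ^ k) ^ 2 + 1` (linear) or `(2 ^ k) ^ 3 + 1` (unitary) points; its products with the members
commuting with both fix as many.
-/

set_option autoImplicit false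
set_option linter.style.haveILetI false
set_option linter.unusedSectionVars false

namespace Cfsg.Agent.GoodInvol

open Subgroup MulAction

universe u

variable {G : Type u} [Group G] [Finite G] {Ω : Type u} [MulAction G Ω] [Finite Ω] [FaithfulSMul G Ω] {D : Set G}

/-- The numbers at an outer involution `w` on the points of `v`. -/
structure Chord (D : Set G) (Ω : Type u) [MulAction G Ω] (v w : G) (k e : ℕ) : Prop where
  pos : 1 ≤ k
  card_inter : (fixSet Ω v ∩ fixSet Ω w).ncard = 2 ^ k + 1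
  card_fix : (fixSet Ω v).ncard = (2 ^ k) ^ e + 1
  kind : e = 2 ∨ (e = 3 ∧ 2 ≤ k ∧
    ∀ (a : Ω) (T E : Subgroup G), v • a = a → T ≤ ptC v a → ESet D v a T E → Nat.card E = 2 ^ k)
  mul : ∀ c ∈ cmem D v, Commute c w → (fixSet Ω v ∩ fixSet Ω (w * c)).ncard = 2 ^ k + 1

namespace Crit

variable (h : Crit D Ω) (hB : Below.{u} (Nat.card G)) (hgen : closure D = ⊤)
include h hB hgen

set_option maxHeartbeats 1000000 in
theorem exists_chord_at {v w : G} (hv : orderOf v = 2) (hbad : ¬ OneFix Ω v) (hw : orderOf w = 2)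
    (hvw : Commute v w) {a b : Ω} (hab : a ≠ b) (hva : v • a = a) (hvb : v • b = b) (hwa : w • a = a)
    (hwb : w • b = b) {z : Ω} (hvz : v • z = z) (hwz : w • z ≠ z) :
    ∃ k e : ℕ, 1 ≤ k ∧ (fixSet Ω v ∩ fixSet Ω w).ncard = 2 ^ k + 1 ∧ (fixSet Ω v).ncard = (2 ^ k) ^ e + 1 ∧
      (e = 2 ∨ (e = 3 ∧ 2 ≤ k ∧
        ∀ (a' : Ω) (T E : Subgroup G), v • a' = a' → T ≤ ptC v a' → ESet D v a' T E → Nat.card E = 2 ^ k)) ∧
      ∀ c ∈ cmem D v, Commute c w → c • a = a → (fixSet Ω v ∩ fixSet Ω (w * c)).ncard = 2 ^ k + 1 := by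
  classical
  haveI : Fact (Nat.Prime 2) := ⟨Nat.prime_two⟩
  haveI : Nonempty Ω := ⟨a⟩
  set C := Subgroup.centralizer ({v} : Set G) with hC
  have hCrit : Crit (cenD D v) (fixSub Ω v) := h.centralizer hv
  have hGoal : Goal (cenD D v) (fixSub Ω v) := goal_centralizer hB h hgen hv hva
  set aF : fixSub Ω v := ⟨a, hva⟩ with haF
  set bF : fixSub Ω v := ⟨b, hvb⟩ with hbF
  have habF : aF ≠ bF := fun e1 => hab (congrArg Subtype.val e1)
  obtain ⟨hse, hcore⟩ := se_induced hCrit hGoal habF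
  set I := induced (cenD D v) (fixSub Ω v) with hIdef
  set π := toPermHom C (fixSub Ω v) with hπ
  set H := stabilizer I aF with hH
  have hI : ∀ c : C, (c : G) ∈ D → π c ∈ I := fun c hc =>
    mem_map_of_mem π (subset_closure (show c ∈ cenD D v from hc))
  have hord : ∀ (c : C) (hc : (c : G) ∈ D), orderOf (⟨π c, hI c hc⟩ : I) = 2 := fun c hc => by
    refine Invol.order_two_of_sq (Subtype.ext ?_) fun h1 => ?_
    · show π c * π c = 1
      rw [← map_mul, show c * c = 1 from Subtype.ext (Invol.mul_self (h.invol _ hc)), map_one]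
    · have h1' : π c = 1 := congrArg Subtype.val h1
      have hfix : ∀ z : fixSub Ω v, c • z = z := fun z => by
        show π c z = z
        rw [h1', Equiv.Perm.one_apply]
      exact habF (hCrit.unique c hc aF bF (hfix aF) (hfix bF))
  have hR : ¬ BrauerSuzuki.RankOne I := by
    intro hR
    obtain ⟨⟨d1, hd1, e1, he1, hd1X, he1X, hne1, hde1⟩, -⟩ := h.exists_image hB hgen hv hbad hva
    set dC : C := ⟨d1, mem_centralizer_singleton_iff.2 (mem_ptC.1 hd1X).1.eq⟩
    set eC : C := ⟨e1, mem_centralizer_singleton_iff.2 (mem_ptC.1 he1X).1.eq⟩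
    have hc : Commute (⟨π dC, hI dC hd1⟩ : I) ⟨π eC, hI eC he1⟩ := Subtype.ext (by
      show π dC * π eC = π eC * π dC
      rw [← map_mul, show dC * eC = eC * dC from Subtype.ext hde1.eq, map_mul])
    have heq : π dC = π eC :=
      congrArg (fun k : I => (k : Equiv.Perm (fixSub Ω v))) (hR _ _ (hord dC hd1) (hord eC he1) hc)
    exact hne1 (h.eq_of_fixAct hbad hd1 he1 hde1 fun y hy =>
      congrArg Subtype.val (Equiv.congr_fun heq ⟨y, hy⟩))
  obtain ⟨Q, hQ⟩ := SEMain.exists_reg SEMain.stmt hse hcore (SEMain.exists_pair hse hR)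
  obtain ⟨S, hS⟩ := hQ.exists_sylow hse
  have huniq : ∀ P : Subgroup I, IsPGroup 2 P → P ≤ H → P ≤ Q := by
    intro P hP2 hPH
    have hn : P ≤ Subgroup.normalizer (Q : Set I) :=
      hPH.trans ((normal_subgroupOf_iff_le_normalizer hQ.le).1 hQ.norm)
    have h3 := S.3 (IsPGroup.to_sup_of_normal_right' hP2 hQ.two hn) (hS ▸ le_sup_right)
    rw [hS] at h3
    exact h3 ▸ le_sup_left
  have hsq2 : ∀ x : I, x * x = 1 → x • aF = aF → x ∈ Q := fun x hx hxa =>
    huniq (zpowers x) (by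
      obtain ⟨j, -, hj⟩ := (Nat.dvd_prime_pow Nat.prime_two).1
        (orderOf_dvd_of_pow_eq_one (show x ^ 2 ^ 1 = 1 by rw [pow_one, pow_two, hx]))
      exact IsPGroup.of_card (n := j) (by rw [Nat.card_zpowers, hj]))
      (zpowers_le.2 (mem_stabilizer_iff.2 hxa)) (mem_zpowers x)
  -- the involution as a permutation of the points of `v`
  set wC : C := ⟨w, mem_centralizer_singleton_iff.2 hvw.symm.eq⟩ with hwC
  set σ := π wC with hσdef
  have hσ2 : σ * σ = 1 := by
    rw [hσdef, ← map_mul, show wC * wC = 1 from Subtype.ext (Invol.mul_self hw), map_one]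
  have hσi : σ⁻¹ = σ := inv_eq_of_mul_eq_one_right hσ2
  have hσap : ∀ y, σ (σ y) = y := fun y => by rw [← Equiv.Perm.mul_apply, hσ2, Equiv.Perm.one_apply]
  have hσa : σ aF = aF := Subtype.ext hwa
  have hσb : σ bF = bF := Subtype.ext hwb
  have hσz : σ ⟨z, hvz⟩ ≠ ⟨z, hvz⟩ := fun e1 => hwz (congrArg Subtype.val e1)
  have hcl : ∀ g : C, ∀ k ∈ closure (cenD D v), g * k * g⁻¹ ∈ closure (cenD D v) := by
    intro g k hk
    induction hk using Subgroup.closure_induction with
    | mem d hd => exact subset_closure (hCrit.conj g d hd)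
    | one => simp
    | mul c e _ _ ihc ihe => simpa [mul_assoc] using mul_mem ihc ihe
    | inv c _ ihc => simpa [mul_assoc] using inv_mem ihc
  have hσI : ∀ i ∈ I, σ * i * σ ∈ I := by
    rintro i ⟨k, hk, rfl⟩
    refine ⟨wC * k * wC⁻¹, hcl wC k hk, ?_⟩
    rw [map_mul, map_mul, map_inv, ← hσdef, hσi]
  -- its automorphism of the regular subgroup
  have hσQ : ∀ q : Q, (⟨σ * (q : I) * σ, hσI _ (q : I).2⟩ : I) ∈ Q := by
    let c : I →* I :=
      { toFun := fun i => ⟨σ * i * σ, hσI _ i.2⟩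
        map_one' := Subtype.ext (by show σ * 1 * σ = 1; rw [mul_one, hσ2])
        map_mul' := fun i j => Subtype.ext (by
          show σ * ((i : Equiv.Perm (fixSub Ω v)) * j) * σ = σ * i * σ * (σ * j * σ)
          simp only [mul_assoc]; rw [← mul_assoc σ σ, hσ2, one_mul]) }
    intro q
    refine huniq (Q.map c) (hQ.two.map c) ?_ ⟨q, q.2, rfl⟩
    rintro _ ⟨x, hx, rfl⟩
    refine mem_stabilizer_iff.2 ?_
    show σ ((x : Equiv.Perm (fixSub Ω v)) (σ aF)) = aF
    rw [hσa, show (x : Equiv.Perm (fixSub Ω v)) aF = aF from hQ.le hx, hσa]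
  let θ : MulAut Q :=
    { toFun := fun q => ⟨_, hσQ q⟩
      invFun := fun q => ⟨_, hσQ q⟩
      left_inv := fun q => Subtype.ext (Subtype.ext (by
        show σ * (σ * ((q : I) : Equiv.Perm (fixSub Ω v)) * σ) * σ = _
        simp only [mul_assoc, hσ2, mul_one]; rw [← mul_assoc, hσ2, one_mul]))
      right_inv := fun q => Subtype.ext (Subtype.ext (by
        show σ * (σ * ((q : I) : Equiv.Perm (fixSub Ω v)) * σ) * σ = _
        simp only [mul_assoc, hσ2, mul_one]; rw [← mul_assoc, hσ2, one_mul]))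
      map_mul' := fun i j => Subtype.ext (Subtype.ext (by
        show σ * (((i : I) : Equiv.Perm (fixSub Ω v)) * ((j : I) : Equiv.Perm (fixSub Ω v))) * σ =
          σ * ((i : I) : Equiv.Perm (fixSub Ω v)) * σ * (σ * ((j : I) : Equiv.Perm (fixSub Ω v)) * σ)
        simp only [mul_assoc]; rw [← mul_assoc σ σ, hσ2, one_mul])) }
  have hθ : ∀ (q : Q) (y : fixSub Ω v), (θ q : I) • y = σ ((q : I) • σ y) := fun q y => rfl
  have hθ2 : ∀ q : Q, θ (θ q) = q := fun q => θ.left_inv q
  -- the bijection of the regular subgroup with the other points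
  have htr : ∀ y : fixSub Ω v, ∃ g : I, g • aF = y := fun y => by
    obtain ⟨g, hg, hgy⟩ := hCrit.exists_smul aF y
    exact ⟨⟨π g, mem_map_of_mem _ hg⟩, hgy⟩
  obtain ⟨g1, hg1⟩ := htr bF
  have hg1H : g1 ∉ H := fun e1 => habF ((mem_stabilizer_iff.1 e1).symm.trans hg1)
  have hinj : Function.Injective fun q : Q => (q : I) • bF := by
    intro q q' hqq
    have e1 : (q : I) • bF = (q' : I) • bF := hqq
    refine Subtype.ext (inv_mul_eq_one.1 (hQ.reg g1 hg1H _ (mul_mem (inv_mem q.2) q'.2)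
      (mem_stabilizer_iff.2 ?_)))
    rw [mul_smul, mul_smul, inv_smul_eq_iff, hg1, mul_smul, inv_smul_eq_iff]
    exact e1.symm
  have hQa : ∀ q : Q, (q : I) • aF = aF := fun q => hQ.le q.2
  have hsurj : ∀ y : fixSub Ω v, y ≠ aF → ∃ q : Q, (q : I) • bF = y := by
    intro y hy
    obtain ⟨g2, hg2⟩ := htr y
    have hg2H : g2 ∉ H := fun e1 => hy (hg2.symm.trans (mem_stabilizer_iff.1 e1))
    obtain ⟨q, hq, hqq⟩ := hQ.trans g1 g2 hg1H hg2H
    refine ⟨⟨q, hq⟩, ?_⟩
    have h1 : (g2⁻¹ * (q * g1)) • aF = aF := hqq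
    rw [mul_smul, mul_smul, inv_smul_eq_iff, hg1, hg2] at h1
    exact h1
  have hfix : {y : fixSub Ω v | σ y = y}.ncard = Nat.card (fixedBy' θ) + 1 := by
    have e : {y : fixSub Ω v | σ y = y} = insert aF ((fun q : Q => (q : I) • bF) '' (fixedBy' θ : Set Q)) := by
      ext y
      constructor
      · intro hy
        by_cases hya : y = aF
        · exact Or.inl hya
        obtain ⟨q, rfl⟩ := hsurj y hya
        refine Or.inr ⟨q, hinj ?_, rfl⟩
        show (θ q : I) • bF = (q : I) • bF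
        rw [hθ, hσb]
        exact hy
      · rintro (rfl | ⟨q, hq, rfl⟩)
        · exact hσa
        · show σ ((q : I) • bF) = (q : I) • bF
          conv_rhs => rw [← (hq : θ q = q), hθ, hσb]
    rw [e, Set.ncard_insert_of_notMem ?_ (Set.toFinite _), Set.ncard_image_of_injective _ hinj,
      ← Nat.card_coe_set_eq]
    · rfl
    · rintro ⟨q, -, hq⟩
      exact habF (MulAction.injective (q : I) ((hQa q).trans hq.symm))
  obtain ⟨k, hk⟩ := IsPGroup.iff_card.1 (hQ.two.to_subgroup (fixedBy' θ))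
  have hkfix : (fixSet Ω v ∩ fixSet Ω w).ncard = 2 ^ k + 1 := by
    rw [← hk, ← hfix, ← Set.ncard_image_of_injective _ (Subtype.val_injective (p := fun x => x ∈ fixSub Ω v))]
    congr 1
    ext y
    constructor
    · rintro ⟨hy1, hy2⟩
      exact ⟨⟨y, hy1⟩, Subtype.ext hy2, rfl⟩
    · rintro ⟨y, hy, rfl⟩
      exact ⟨y.2, congrArg Subtype.val hy⟩
  have hIB : SEBender.IsBender I := ((induced_outcome hCrit hGoal habF).resolve_left fun e1 => hR e1.1).1
  -- the involution is not inner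
  have houter : σ ∉ I := fun hmem => by
    have h1 : (⟨σ, hmem⟩ : I) ∈ Q := hsq2 _ (Subtype.ext hσ2) hσa
    have h2 : (⟨⟨σ, hmem⟩, h1⟩ : Q) = 1 := hinj (show (⟨σ, hmem⟩ : I) • bF = (1 : I) • bF by
      rw [one_smul]; exact hσb)
    have h3 : σ = 1 := congrArg (fun q : Q => ((q : I) : Equiv.Perm (fixSub Ω v))) h2
    exact hσz (by rw [h3, Equiv.Perm.one_apply])
  rcases exists_chordKind hIB with ⟨r, e, ε, hK⟩ | hinn
  swap
  · exfalso
    have hmemN : σ ∈ normalizer (I : Set (Equiv.Perm (fixSub Ω v))) := mem_normalizer_iff.2 fun i =>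
      ⟨fun hi => hσi.symm ▸ hσI i hi, fun hi => by
        rw [hσi] at hi
        have := hσI _ hi
        simpa [mul_assoc, hσ2, ← mul_assoc σ σ] using this⟩
    obtain ⟨k', hk'⟩ := hinn (I.normalizerMonoidHom ⟨σ, hmemN⟩) (by
      rw [← map_mul, show (⟨σ, hmemN⟩ : normalizer (I : Set (Equiv.Perm (fixSub Ω v)))) * ⟨σ, hmemN⟩ = 1 from
        Subtype.ext hσ2, map_one])
    have h1 : (k' : Equiv.Perm (fixSub Ω v))⁻¹ * σ = 1 := eq_one_of_comm hCrit hGoal habF fun i hi => by
      have h2 : (k' : Equiv.Perm (fixSub Ω v)) * i * (k' : Equiv.Perm (fixSub Ω v))⁻¹ = σ * i * σ⁻¹ :=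
        congrArg (fun f : MulAut I => ((f ⟨i, hi⟩ : I) : Equiv.Perm (fixSub Ω v))) hk'
      calc (k' : Equiv.Perm (fixSub Ω v))⁻¹ * σ * i = (k' : Equiv.Perm (fixSub Ω v))⁻¹ * (σ * i * σ⁻¹) * σ := by
            group
        _ = i * ((k' : Equiv.Perm (fixSub Ω v))⁻¹ * σ) := by rw [← h2]; group
    exact houter ((inv_mul_eq_one.1 h1) ▸ k'.2)
  obtain ⟨hScard, hSsol, E, hEle, hEcard, hEsq, hEbot, hEmem⟩ := hK.sylow S
  rw [show Nat.card S = Nat.card Q by rw [← hS]] at hScard
  rw [hS] at hEle hEsq hSsol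
  simp only [hS] at hEmem
  set E0 := E.subgroupOf Q with hE0
  have hE0c : Nat.card E0 = 2 ^ ε := (Nat.card_congr (subgroupOfEquivOfLe hEle).toEquiv).trans hEcard
  have hinvE : ∀ f : MulAut Q, ∀ x ∈ E0, f x ∈ E0 := by
    intro f x hx
    rcases hK.kind with ⟨he, -, -⟩ | ⟨he, -, -⟩
    · rw [mem_subgroupOf, hEbot he, mem_bot] at hx ⊢
      rw [show x = 1 from Subtype.ext hx, map_one]; rfl
    · rw [mem_subgroupOf, hEmem he] at hx ⊢
      refine ⟨(f x).2, congrArg Subtype.val (show f x * f x = 1 from ?_)⟩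
      rw [← map_mul, show x * x = 1 from Subtype.ext hx.2, map_one]
  haveI : E0.Normal := ⟨fun x hx g => hinvE (MulAut.conj g) x hx⟩
  obtain ⟨hbound, hsur⟩ := inverted_bound θ hθ2 E0 (fun x hx => hinvE θ x hx) fun x => hEsq x x.2
  rw [hScard, hk, hE0c, ← pow_mul, ← pow_add] at hbound hsur
  have hlo : e * r ≤ k * 2 + ε := (Nat.pow_le_pow_iff_right (by norm_num : 1 < 2)).1 hbound
  have hhi : k < e * r := by
    refine (Nat.pow_lt_pow_iff_right (by norm_num : 1 < 2)).1 ?_
    rw [← hk, ← hScard]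
    refine lt_of_le_of_ne (card_le_card_group _) fun e1 => ?_
    have htop := eq_top_of_card_eq _ e1
    by_cases hza : (⟨z, hvz⟩ : fixSub Ω v) = aF
    · exact hσz (by rw [hza]; exact hσa)
    obtain ⟨q, hq⟩ := hsurj _ hza
    have hq2 : θ q = q := mem_fixedBy'.1 (htop ▸ mem_top q)
    refine hσz ?_
    rw [← hq]
    conv_rhs => rw [← hq2, hθ, hσb]
  -- divisibility
  have hdvd : 2 ^ k + 1 ∣ Nat.card I := by
    let J : Subgroup I :=
      { carrier := {g | Commute (g : Equiv.Perm (fixSub Ω v)) σ}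
        one_mem' := Commute.one_left σ
        mul_mem' := fun ha hb => ha.mul_left hb
        inv_mem' := fun ha => ha.inv_left }
    have hCw : orderOf wC = 2 := by rw [← Subgroup.orderOf_coe]; exact hw
    have hCrit2 := hCrit.centralizer hCw
    have e : (orbit J aF).ncard = 2 ^ k + 1 := by
      rw [← hk, ← hfix]
      congr 1
      ext y
      constructor
      · rintro ⟨⟨g, hg⟩, rfl⟩
        show σ ((g : Equiv.Perm (fixSub Ω v)) aF) = (g : Equiv.Perm (fixSub Ω v)) aF
        rw [← Equiv.Perm.mul_apply, ← (hg : Commute (g : Equiv.Perm (fixSub Ω v)) σ).eq, Equiv.Perm.mul_apply, hσa]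
      · intro hy
        obtain ⟨g, hg, hgy⟩ := hCrit2.exists_smul ⟨aF, hσa⟩ ⟨y, hy⟩
        have hgI : π (g : C) ∈ I := by
          refine mem_map_of_mem π ?_
          clear hgy
          induction hg using Subgroup.closure_induction with
          | mem d hd => exact subset_closure hd
          | one => exact one_mem _
          | mul c e _ _ ihc ihe => exact mul_mem ihc ihe
          | inv c _ ihc => exact inv_mem ihc
        refine ⟨⟨⟨π (g : C), hgI⟩, ?_⟩, congrArg Subtype.val hgy⟩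
        show Commute (π (g : C)) σ
        exact (show Commute (g : C) wC from mem_centralizer_singleton_iff.1 g.2).map π
    have h1 := Nat.card_congr (orbitProdStabilizerEquivGroup J aF)
    rw [Nat.card_prod, Nat.card_coe_set_eq, e] at h1
    exact (Dvd.intro _ h1).trans (card_subgroup_dvd_card J)
  have hkr : e * r = k * 2 + ε := by
    rcases hK.kind with ⟨rfl, rfl, hd⟩ | ⟨rfl, rfl, hd⟩
    · have := chord_linear (by have := hK.two_le; omega) (by omega) (by omega) (hdvd.trans hd)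
      omega
    · have := chord_unitary hK.two_le (by omega) (by omega) (hdvd.trans hd)
      omega
  have hfix_v : (fixSet Ω v).ncard = 2 ^ (e * r) + 1 := by
    rw [← hScard, show (fixSet Ω v).ncard = (Set.univ : Set (fixSub Ω v)).ncard by
        rw [Set.ncard_univ]; exact (Nat.card_coe_set_eq _).symm,
      show (Set.univ : Set (fixSub Ω v)) = insert aF (Set.range fun q : Q => (q : I) • bF) from ?_,
      Set.ncard_insert_of_notMem ?_ (Set.toFinite _), ← Set.image_univ, Set.ncard_image_of_injective _ hinj,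
      Set.ncard_univ]
    · rintro ⟨q, hq⟩
      exact habF (MulAction.injective (q : I) ((hQa q).trans hq.symm))
    · refine (Set.eq_univ_iff_forall.2 fun y => ?_).symm
      by_cases hya : y = aF
      · exact Or.inl hya
      · exact Or.inr (hsurj y hya)
  refine ⟨k, if ε = 0 then 2 else 3, ?_, hkfix, ?_, ?_, ?_⟩
  · rcases hK.kind with ⟨rfl, rfl, -⟩ | ⟨rfl, rfl, -⟩ <;> have := hK.two_le <;> omega
  · rw [hfix_v, ← pow_mul]
    congr 2
    rcases hK.kind with ⟨rfl, rfl, -⟩ | ⟨rfl, rfl, -⟩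
    · rw [if_pos rfl]; omega
    · rw [if_neg (by have := hK.two_le; omega)]; omega
  · rcases hK.kind with ⟨rfl, rfl, -⟩ | ⟨rfl, rfl, -⟩
    · exact Or.inl (if_pos rfl)
    · have hkε : k = ε := by omega
      refine Or.inr ⟨if_neg (by have := hK.two_le; omega), by have := hK.two_le; omega, fun a' T E' ha' hT hE' => ?_⟩
      obtain ⟨r', e', hP, -, hE'c⟩ := h.exists_fix_params hB hgen hv hbad ha' hT hE'
      have h2 := (hP.sylow S).2
      rw [hS, hSsol] at h2
      rw [hE'c, ← h2, hkε]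
  · intro c hc hcw hca
    set cC : C := ⟨c, mem_centralizer_singleton_iff.2 hc.2.eq⟩ with hcC
    have hcQ : (⟨π cC, hI cC hc.1⟩ : I) ∈ Q := hsq2 _ (Subtype.ext (by
      show π cC * π cC = 1
      rw [← map_mul, show cC * cC = 1 from Subtype.ext (Invol.mul_self (h.invol _ hc.1)), map_one]))
      (Subtype.ext hca)
    set y : Q := ⟨_, hcQ⟩ with hy
    have hyσ : Commute (π cC) σ := (show Commute cC wC from Subtype.ext hcw.eq).map π
    have hy2 : y * y = 1 := Subtype.ext (Subtype.ext (by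
      show π cC * π cC = 1
      rw [← map_mul, show cC * cC = 1 from Subtype.ext (Invol.mul_self (h.invol _ hc.1)), map_one]))
    obtain ⟨x, hx⟩ := hsur (congrArg (2 ^ ·) hkr) y (by
      rw [inv_eq_of_mul_eq_one_right hy2]
      refine Subtype.ext (Subtype.ext ?_)
      show σ * π cC * σ = π cC
      rw [← hyσ.eq, mul_assoc, hσ2, mul_one])
    set X : Equiv.Perm (fixSub Ω v) := ((x : I) : Equiv.Perm (fixSub Ω v)) with hX
    have hx' : π cC = X⁻¹ * (σ * X * σ) :=
      congrArg (fun q : Q => ((q : I) : Equiv.Perm (fixSub Ω v))) hx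
    have hact : σ * π cC = X⁻¹ * σ * X := by
      rw [← hyσ.eq, hx']
      simp only [mul_assoc, hσ2, mul_one]
    rw [← hk, ← hfix, ← Set.ncard_image_of_injective {y : fixSub Ω v | σ y = y} (X⁻¹ : Equiv.Perm (fixSub Ω v)).injective,
      ← Set.ncard_image_of_injective ((X⁻¹ : Equiv.Perm (fixSub Ω v)) '' _)
        (Subtype.val_injective (p := fun x => x ∈ fixSub Ω v))]
    congr 1
    ext y'
    constructor
    · rintro ⟨hy1, hy2'⟩
      refine ⟨⟨y', hy1⟩, ⟨X ⟨y', hy1⟩, ?_, Equiv.symm_apply_apply X _⟩, rfl⟩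
      have h1 : (σ * π cC) ⟨y', hy1⟩ = ⟨y', hy1⟩ := Subtype.ext (by
        show w • c • y' = y'
        rw [← mul_smul]; exact hy2')
      rw [hact] at h1
      simp only [Equiv.Perm.mul_apply, Equiv.Perm.inv_eq_iff_eq] at h1
      exact h1
    · rintro ⟨_, ⟨y0, hy0, rfl⟩, rfl⟩
      refine ⟨((X⁻¹ : Equiv.Perm (fixSub Ω v)) y0).2, ?_⟩
      have h1 : (σ * π cC) ((X⁻¹ : Equiv.Perm (fixSub Ω v)) y0) = (X⁻¹ : Equiv.Perm (fixSub Ω v)) y0 := by
        rw [hact]
        simp only [Equiv.Perm.mul_apply, Equiv.Perm.coe_inv, Equiv.apply_symm_apply]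
        exact congrArg _ hy0
      show (w * c) • _ = _
      rw [mul_smul]
      exact congrArg Subtype.val h1

/-- The chord. -/
theorem exists_chord {v w : G} (hv : orderOf v = 2) (hbad : ¬ OneFix Ω v) (hw : orderOf w = 2)
    (hvw : Commute v w) {a b : Ω} (hab : a ≠ b) (hva : v • a = a) (hvb : v • b = b) (hwa : w • a = a)
    (hwb : w • b = b) {z : Ω} (hvz : v • z = z) (hwz : w • z ≠ z) :
    ∃ k e : ℕ, Chord D Ω v w k e := by
  haveI : Nonempty Ω := ⟨a⟩
  obtain ⟨k, e, h1, h2, h3, h4, -⟩ := h.exists_chord_at hB hgen hv hbad hw hvw hab hva hvb hwa hwb hvz hwz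
  refine ⟨k, e, h1, h2, h3, h4, fun c hc hcw => ?_⟩
  obtain ⟨p, hp⟩ := h.exists_fix (h.invol c hc.1)
  have hvp := h.fix_of_cmem hc hp
  have hwp : w • p = p := h.fix_of_cmem (w := w) ⟨hc.1, hcw⟩ hp
  obtain ⟨p', hpp', hvp', hwp'⟩ : ∃ p', p ≠ p' ∧ v • p' = p' ∧ w • p' = p' := by
    by_cases hpa : p = a
    · exact ⟨b, hpa ▸ hab, hvb, hwb⟩
    · exact ⟨a, hpa, hva, hwa⟩
  obtain ⟨k', e', -, g2, -, -, g5⟩ := h.exists_chord_at hB hgen hv hbad hw hvw hpp' hvp hvp' hwp hwp' hvz hwz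
  rw [g5 c hc hcw hp, ← g2, h2]

end Crit

end Cfsg.Agent.GoodInvol
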