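import Cfsg.Agent.Lib.Solvable.WielandtOrder
import Cfsg.Agent.Lib.Solvable.SchurZassenhaus
import Mathlib.GroupTheory.Subgroup.Centralizer
import Mathlib.GroupTheory.GroupAction.Quotient

/-!
# A four-group on an orbit of an odd group

If two commuting involutions normalise a group of odd order transitive by conjugation on a set, the size of the
set times the square of the number of common fixed members is the product of the three numbers of fixed members.
-/

set_option autoImplicit false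
set_option linter.style.haveILetI false
set_option linter.unusedSectionVars false

namespace Cfsg.Agent.GoodInvol

open Subgroup MulAction

universe u

/-- A group with its conjugation action. -/
def CjSpace (G : Type u) : Type u := G

instance {G : Type u} [Group G] : MulAction G (CjSpace G) :=
  MulAction.compHom (CjSpace G) (show G →* Equiv.Perm (CjSpace G) from
    { toFun := fun g => (MulAut.conj g).toEquiv
      map_one' := Equiv.ext fun x => by show MulAut.conj (1 : G) x = x; rw [map_one]; rfl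
      map_mul' := fun g h => Equiv.ext fun x => by
        show MulAut.conj (g * h) x = MulAut.conj g (MulAut.conj h x); rw [map_mul]; rfl })

theorem cjSpace_smul {G : Type u} [Group G] (g : G) (d : CjSpace G) :
    (g • d : CjSpace G) = (MulAut.conj g) (show G from d) := rfl

variable {G : Type u} [Group G]

/-- An element as a point of the conjugation action. -/
def cjOf (d : G) : CjSpace G := d

/-- The fixed points of the conjugation action are the commuting elements. -/
theorem smul_cjOf_iff {a d : G} : a • cjOf d = cjOf d ↔ Commute d a :=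
  (show a * d * a⁻¹ = d ↔ Commute d a from
    ⟨fun h => (mul_inv_eq_iff_eq_mul.1 h).symm, fun h => mul_inv_eq_iff_eq_mul.2 h.symm.eq⟩)

/-- The group of two commuting involutions. -/
def fourGroup (u t : G) (hu : u * u = 1) (ht : t * t = 1) (hc : Commute u t) : Subgroup G where
  carrier := {1, u, t, u * t}
  one_mem' := Set.mem_insert _ _
  mul_mem' := by
    have e1 : ∀ x, u * (u * x) = x := fun x => by rw [← mul_assoc, hu, one_mul]
    have e2 : ∀ x, t * (t * x) = x := fun x => by rw [← mul_assoc, ht, one_mul]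
    have e3 : ∀ x, t * (u * x) = u * (t * x) := fun x => by rw [← mul_assoc, ← hc.eq, mul_assoc]
    intro a b ha hb
    simp only [Set.mem_insert_iff, Set.mem_singleton_iff] at ha hb ⊢
    rcases ha with rfl | rfl | rfl | rfl <;> rcases hb with rfl | rfl | rfl | rfl <;>
      simp [mul_assoc, hu, ht, hc.symm.eq, e1, e3]
  inv_mem' := by
    intro a ha
    simp only [Set.mem_insert_iff, Set.mem_singleton_iff] at ha ⊢
    rcases ha with rfl | rfl | rfl | rfl
    · simp
    · simp [inv_eq_of_mul_eq_one_right hu]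
    · simp [inv_eq_of_mul_eq_one_right ht]
    · simp [inv_eq_of_mul_eq_one_right hu, inv_eq_of_mul_eq_one_right ht, hc.symm.eq]

theorem mem_fourGroup {u t : G} {hu : u * u = 1} {ht : t * t = 1} {hc : Commute u t} {g : G} :
    g ∈ fourGroup u t hu ht hc ↔ g = 1 ∨ g = u ∨ g = t ∨ g = u * t := Iff.rfl

variable [Finite G]

/-- The fixed members, by the centraliser of one of them. -/
theorem card_orbit_mul (K : Subgroup G) (d0 : G) (Z : Set G) (hd0 : d0 ∈ Z)
    (hinv : ∀ k ∈ K, ∀ d ∈ Z, k * d * k⁻¹ ∈ Z) (htr : ∀ d ∈ Z, ∃ k ∈ K, k * d0 * k⁻¹ = d) :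
    Z.ncard * Nat.card ↥(K ⊓ centralizer ({d0} : Set G)) = Nat.card K := by
  have h := Nat.card_congr (orbitProdStabilizerEquivGroup K (cjOf d0))
  rw [Nat.card_prod, Nat.card_coe_set_eq] at h
  have ho : orbit K (cjOf d0) = Z := by
    ext d
    exact ⟨fun ⟨k, hk⟩ => hk ▸ hinv k k.2 d0 hd0, fun hd => by
      obtain ⟨k, hk, e⟩ := htr d hd
      exact ⟨⟨k, hk⟩, e⟩⟩
  have hs : (stabilizer K (cjOf d0)).map K.subtype = K ⊓ centralizer ({d0} : Set G) := by
    ext g
    constructor
    · rintro ⟨k, hk, rfl⟩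
      exact ⟨k.2, mem_centralizer_singleton_iff.2 (mul_inv_eq_iff_eq_mul.1 (show (k : G) * d0 * (k : G)⁻¹ = d0 from hk))⟩
    · rintro ⟨h1, h2⟩
      exact ⟨⟨g, h1⟩, (smul_cjOf_iff (a := g)).2 (mem_centralizer_singleton_iff.1 h2).symm, rfl⟩
  rw [ho, ← card_map_of_injective (K := stabilizer K (cjOf d0)) K.subtype_injective, hs] at h
  exact h

/-- The count. -/
theorem four_count (O : Subgroup G) (hO : Odd (Nat.card O)) {u t : G} (hu : orderOf u = 2) (ht : orderOf t = 2)
    (hc : Commute u t) (hne : u ≠ t) (huO : u ∈ normalizer (O : Set G)) (htO : t ∈ normalizer (O : Set G))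
    (Y : Set G) (hY : Y.Nonempty) (hOY : ∀ k ∈ O, ∀ d ∈ Y, k * d * k⁻¹ ∈ Y)
    (huY : ∀ d ∈ Y, u * d * u⁻¹ ∈ Y) (htY : ∀ d ∈ Y, t * d * t⁻¹ ∈ Y)
    (htr : ∀ d ∈ Y, ∀ e ∈ Y, ∃ k ∈ O, k * d * k⁻¹ = e) :
    Y.ncard * {d ∈ Y | Commute d u ∧ Commute d t}.ncard ^ 2 =
      {d ∈ Y | Commute d u}.ncard * {d ∈ Y | Commute d t}.ncard * {d ∈ Y | Commute d (u * t)}.ncard := by
  classical
  haveI : Fact (Nat.Prime 2) := ⟨Nat.prime_two⟩
  have hu2 : u * u = 1 := by rw [← pow_two, ← hu, pow_orderOf_eq_one]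
  have ht2 : t * t = 1 := by rw [← pow_two, ← ht, pow_orderOf_eq_one]
  have hu1 : u ≠ 1 := fun e => by simp [e] at hu
  have ht1 : t ≠ 1 := fun e => by simp [e] at ht
  have hut1 : u * t ≠ 1 := fun e => hne ((eq_inv_of_mul_eq_one_left e).trans (inv_eq_of_mul_eq_one_right ht2))
  set B := fourGroup u t hu2 ht2 hc with hB
  have hBc : Nat.card B = 2 ^ 2 := by
    rw [show Nat.card B = ({1, u, t, u * t} : Set G).ncard from Nat.card_coe_set_eq _,
      Set.ncard_insert_of_notMem, Set.ncard_insert_of_notMem, Set.ncard_pair]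
    · norm_num
    · exact fun e => hu1 (mul_eq_right.1 e.symm)
    · simp only [Set.mem_insert_iff, Set.mem_singleton_iff, not_or]
      exact ⟨hne, fun e => ht1 (mul_eq_left.1 e.symm)⟩
    · simp only [Set.mem_insert_iff, Set.mem_singleton_iff, not_or]
      exact ⟨hu1.symm, ht1.symm, hut1.symm⟩
  have hsq : ∀ a ∈ B, a * a = 1 := by
    intro a ha
    rcases mem_fourGroup.1 ha with rfl | rfl | rfl | rfl
    exacts [one_mul 1, hu2, ht2, by rw [hc.symm.mul_mul_mul_comm, hu2, ht2, one_mul]]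
  have hBe : Cfsg.IsElementaryAbelian 2 B := ⟨⟨⟨fun a b => Subtype.ext (by
    have h := hsq _ (mul_mem a.2 b.2)
    have ha := hsq _ a.2
    have hb := hsq _ b.2
    calc (a : G) * b = ((a : G) * b)⁻¹ := (inv_eq_of_mul_eq_one_right h).symm
      _ = (b : G) * a := by rw [mul_inv_rev, inv_eq_of_mul_eq_one_right ha, inv_eq_of_mul_eq_one_right hb])⟩⟩,
    fun a ha => by rw [pow_two, hsq a ha]⟩
  have hBO : B ≤ normalizer (O : Set G) := by
    intro a ha
    rcases mem_fourGroup.1 ha with rfl | rfl | rfl | rfl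
    exacts [one_mem _, huO, htO, mul_mem huO htO]
  have hcop : (Nat.card B).Coprime (Nat.card O) := by
    rw [hBc]; exact Nat.Coprime.pow_left _ (Nat.coprime_two_left.2 hO)
  have hsolvB : Group.IsSolvable B := Group.isSolvable_of_comm fun a b => hBe.1.is_comm.comm a b
  have hBY : ∀ a ∈ B, ∀ d ∈ Y, a * d * a⁻¹ ∈ Y := by
    intro a ha d hd
    rcases mem_fourGroup.1 ha with rfl | rfl | rfl | rfl
    · simpa using hd
    · exact huY d hd
    · exact htY d hd
    · simpa [mul_assoc] using huY _ (htY d hd)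
  -- the transitivity of the centralisers
  have hfix : ∀ (A : Subgroup G), A ≤ B →
      (∃ d ∈ Y, ∀ a ∈ A, Commute d a) ∧ ∀ d ∈ Y, ∀ e ∈ Y, (∀ a ∈ A, Commute d a) → (∀ a ∈ A, Commute e a) →
        ∃ k ∈ O ⊓ centralizer (A : Set G), k * d * k⁻¹ = e := by
    intro A hA
    obtain ⟨⟨y, hy, hfy⟩, h2⟩ := Cfsg.Agent.SchurZ.glauberman (X := CjSpace G) (A := A) (K := O)
      (hA.trans hBO) (hcop.coprime_dvd_left (card_dvd_of_le hA))
      (Or.inl (Group.isSolvable_of_comm fun a b => Subtype.ext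
        (congrArg Subtype.val (hBe.1.is_comm.comm ⟨a, hA a.2⟩ ⟨b, hA b.2⟩) :))) Y hY
      (fun a ha d hd => hBY a (hA ha) d hd) (fun k hk d hd => hOY k hk d hd) htr
    refine ⟨⟨y, hy, fun a ha => (smul_cjOf_iff (G := G) (d := y)).1 (hfy a ha)⟩, fun d hd e he hda hea => ?_⟩
    exact h2 (cjOf d) hd (cjOf e) he (fun a ha => smul_cjOf_iff.2 (hda a ha))
      (fun a ha => smul_cjOf_iff.2 (hea a ha))
  obtain ⟨d0, hd0, hd0B⟩ := (hfix B le_rfl).1
  set O0 := O ⊓ centralizer ({d0} : Set G) with hO0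
  have hBO0 : B ≤ normalizer (O0 : Set G) := by
    refine (le_inf hBO (fun a ha => ?_)).trans inf_normalizer_le_normalizer_inf
    exact le_normalizer (mem_centralizer_singleton_iff.2 (hd0B a ha).symm.eq)
  have hcard : ∀ (A : Subgroup G), A ≤ B →
      {d ∈ Y | ∀ a ∈ A, Commute d a}.ncard * Nat.card ↥(O0 ⊓ centralizer (A : Set G)) =
        Nat.card ↥(O ⊓ centralizer (A : Set G)) := by
    intro A hA
    rw [show O0 ⊓ centralizer (A : Set G) = O ⊓ centralizer (A : Set G) ⊓ centralizer ({d0} : Set G) from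
      inf_right_comm _ _ _]
    refine card_orbit_mul _ d0 _ ⟨hd0, fun a ha => hd0B a (hA ha)⟩ (fun k hk d hd => ⟨hOY k hk.1 d hd.1,
      fun a ha => ?_⟩) fun d hd => (hfix A hA).2 d0 hd0 d hd.1 (fun a ha => hd0B a (hA ha)) hd.2
    have h1 : Commute k a := (mem_centralizer_iff.1 hk.2 a ha).symm
    exact (h1.mul_left (hd.2 a ha)).mul_left h1.inv_left
  have hall : Y.ncard * Nat.card O0 = Nat.card O :=
    card_orbit_mul O d0 Y hd0 hOY fun d hd => htr d0 hd0 d hd
  -- the three lines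
  have hzp : ∀ v ∈ B, v ≠ 1 → Nat.card (zpowers v) = 2 := fun v hv hv1 => by
    rw [Nat.card_zpowers]
    exact orderOf_eq_prime (by rw [pow_two, hsq v hv]) hv1
  have hu' : u ∈ B := mem_fourGroup.2 (Or.inr (Or.inl rfl))
  have ht' : t ∈ B := mem_fourGroup.2 (Or.inr (Or.inr (Or.inl rfl)))
  have hut' : u * t ∈ B := mul_mem hu' ht'
  let L : Fin 3 → WielandtOrder.lines 2 B :=
    ![⟨zpowers u, zpowers_le.2 hu', hzp u hu' hu1⟩, ⟨zpowers t, zpowers_le.2 ht', hzp t ht' ht1⟩,
      ⟨zpowers (u * t), zpowers_le.2 hut', hzp _ hut' hut1⟩]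
  have hmemz : ∀ v : G, v * v = 1 → ∀ w : G, w ∈ zpowers v → w = 1 ∨ w = v := by
    intro v hv w hw
    obtain ⟨n, rfl⟩ := mem_zpowers_iff.1 hw
    rcases Int.even_or_odd n with ⟨m, rfl⟩ | ⟨m, rfl⟩
    · left; rw [← two_mul, zpow_mul, show v ^ (2 : ℤ) = 1 from by rw [zpow_two, hv], one_zpow]
    · right; rw [zpow_add, zpow_mul, show v ^ (2 : ℤ) = 1 from by rw [zpow_two, hv], one_zpow, one_mul, zpow_one]
  have hdiff : ∀ v w : G, v * v = 1 → w ≠ 1 → w ≠ v → zpowers w ≠ zpowers v := fun v w hv hw1 hwv e => by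
    rcases hmemz v hv w (e ▸ mem_zpowers w) with h | h
    exacts [hw1 h, hwv h]
  have hbij : Function.Bijective L := by
    refine (Fintype.bijective_iff_injective_and_card L).2
      ⟨?_, by rw [Fintype.card_fin, WielandtOrder.card_lines hBe hBc]⟩
    have h01 := hdiff t u ht2 hu1 hne
    have h02 := hdiff (u * t) u (hsq _ hut') hu1 fun e => ht1 (mul_eq_left.1 e.symm)
    have h12 := hdiff (u * t) t (hsq _ hut') ht1 fun e => hu1 (mul_eq_right.1 e.symm)
    intro i j hij
    have hij' : (L i : Subgroup G) = L j := congrArg Subtype.val hij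
    fin_cases i <;> fin_cases j <;>
      first | rfl | exact absurd hij' h01 | exact absurd hij' h02 | exact absurd hij' h12 |
        exact absurd hij'.symm h01 | exact absurd hij'.symm h02 | exact absurd hij'.symm h12
  have hform : ∀ X : Subgroup G, B ≤ normalizer (X : Set G) → X ≤ O →
      Nat.card X * Nat.card ↥(X ⊓ centralizer (B : Set G)) ^ 2 =
        Nat.card ↥(X ⊓ centralizer ((zpowers u : Subgroup G) : Set G)) *
          Nat.card ↥(X ⊓ centralizer ((zpowers t : Subgroup G) : Set G)) *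
          Nat.card ↥(X ⊓ centralizer ((zpowers (u * t) : Subgroup G) : Set G)) := by
    intro X hBX hX
    rw [WielandtOrder.formula hBe hBc X hBX (hcop.coprime_dvd_right (card_dvd_of_le hX)), ← hbij.prod_comp,
      Fin.prod_univ_three]
    rfl
  have f1 := hform O hBO le_rfl
  have f2 := hform O0 hBO0 inf_le_left
  rw [← hcard B le_rfl, ← hall, ← hcard _ (zpowers_le.2 hu'), ← hcard _ (zpowers_le.2 ht'),
    ← hcard _ (zpowers_le.2 hut')] at f1
  have hset : ∀ v : G, v * v = 1 → {d ∈ Y | ∀ a ∈ zpowers v, Commute d a} = {d ∈ Y | Commute d v} := by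
    intro v hv
    ext d
    refine ⟨fun h => ⟨h.1, h.2 v (mem_zpowers v)⟩, fun h => ⟨h.1, fun a ha => ?_⟩⟩
    rcases hmemz v hv a ha with rfl | rfl
    exacts [Commute.one_right d, h.2]
  have hsetB : {d ∈ Y | ∀ a ∈ B, Commute d a} = {d ∈ Y | Commute d u ∧ Commute d t} := by
    ext d
    refine ⟨fun h => ⟨h.1, h.2 u hu', h.2 t ht'⟩, fun h => ⟨h.1, fun a ha => ?_⟩⟩
    rcases mem_fourGroup.1 ha with rfl | rfl | rfl | rfl
    exacts [Commute.one_right d, h.2.1, h.2.2, h.2.1.mul_right h.2.2]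
  rw [hset u hu2, hset t ht2, hset _ (hsq _ hut'), hsetB] at f1
  refine Nat.eq_of_mul_eq_mul_right
    (mul_pos (Nat.card_pos (α := O0)) (pow_pos (Nat.card_pos (α := ↥(O0 ⊓ centralizer (B : Set G)))) 2)) ?_
  calc _ = Y.ncard * Nat.card O0 *
        ({d ∈ Y | Commute d u ∧ Commute d t}.ncard * Nat.card ↥(O0 ⊓ centralizer (B : Set G))) ^ 2 := by ring
    _ = _ := by rw [f1, f2]; ring

end Cfsg.Agent.GoodInvol
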