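import Cfsg.Agent.Lib.GoodInvol.Companion.Chord
import Cfsg.Agent.Lib.GoodInvol.Companion.FourCount
import Cfsg.Agent.Lib.GoodInvol.Swappers
import Cfsg.Agent.Lib.GoodInvol.Trans

/-!
# The counts at a four-group of involutions fixing two points

The swappers of a pair are one orbit of an odd group normalised by the four-group, so their fixed numbers are
related; at a pair of fixed points these are the members at a point, at a pair `x, u x` inside the points of `t`
they are the members acting there as `u`.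
-/

set_option autoImplicit false
set_option linter.style.haveILetI false
set_option linter.unusedSectionVars false

namespace Cfsg.Agent.GoodInvol

open Subgroup MulAction

universe u

variable {G : Type u} [Group G] [Finite G] {Ω : Type u} [MulAction G Ω] [Finite Ω] {D : Set G}

/-- The members at `p` commuting with both. -/
def common (D : Set G) (u t : G) (p : Ω) : Set G := {d ∈ dat D p | Commute d u ∧ Commute d t}

/-- The members acting at `x` as `u` which commute with `t`. -/
def sigCom (D : Set G) (u t : G) (x : Ω) : Set G := {d ∈ csig D u x | Commute d t}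

namespace Crit

variable (h : Crit D Ω)
include h

/-- The products of swappers are transitive on the swappers. -/
theorem swapK_trans_swap {x y : Ω} (hxy : x ≠ y) {v w : G} (hv : v ∈ swap D x y) (hw : w ∈ swap D x y) :
    ∃ k ∈ swapK D x y, k * v * k⁻¹ = w := by
  obtain ⟨m, hm⟩ := h.odd_mul_swap hxy hv hw
  have hv2 := h.invol v hv.1
  have hw2 := h.invol w hw.1
  refine ⟨(v * w) ^ m, pow_mem (subset_closure (show v * w ∈ {g | ∃ r ∈ swap D x y, ∃ r' ∈ swap D x y, g = r * r'} from
    ⟨v, hv, w, hw, rfl⟩)) m, ?_⟩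
  have hre : (v * w) ^ (2 * m) * v = w := by
    refine mul_left_cancel (a := v * w) ?_
    rw [← mul_assoc, ← pow_succ', show 2 * m + 1 = orderOf (v * w) from hm.symm, pow_orderOf_eq_one, one_mul,
      mul_assoc, Invol.mul_self hw2, mul_one]
  have h1 := Invol.zpow_mul_conj (Invol.conj_mul hv2 hw2) ((m : ℕ) : ℤ)
  rw [show (2 : ℤ) * ((m : ℕ) : ℤ) = ((2 * m : ℕ) : ℤ) by push_cast; ring, zpow_natCast, zpow_natCast, hre] at h1
  exact h1

/-- The swappers commuting with some elements of the pair stabiliser, counted at a point. -/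
theorem card_swap_comm {x y : Ω} (hxy : x ≠ y) (S : Set G) (hS : ∀ s ∈ S, s ∈ pairSet x y) {e : G}
    (he : e ∈ dat D x) (hes : ∀ s ∈ S, Commute e s) :
    {d ∈ swap D x y | ∀ s ∈ S, Commute d s}.ncard = {d ∈ dat D y | ∀ s ∈ S, Commute d s}.ncard := by
  have hb := h.bijOn_swap hxy he
  refine Set.ncard_congr (fun v _ => v * e * v) (fun v hv => ?_) (fun v w hv hw hvw => ?_) fun f hf => ?_
  · exact ⟨hb.mapsTo hv.1, fun s hs => ((hv.2 s hs).mul_left (hes s hs)).mul_left (hv.2 s hs)⟩
  · exact hb.injOn hv.1 hw.1 hvw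
  · obtain ⟨v, hv, hvf⟩ := hb.surjOn hf.1
    refine ⟨v, ⟨hv, fun s hs => ?_⟩, hvf⟩
    have h1 := h.conj_swap (hS s hs) hv
    have h2 : s * v * s⁻¹ = v := hb.injOn h1 hv (by
      show s * v * s⁻¹ * e * (s * v * s⁻¹) = v * e * v
      have h3 : e = s * e * s⁻¹ := (mul_inv_eq_iff_eq_mul.2 (hes s hs).symm.eq).symm
      calc s * v * s⁻¹ * e * (s * v * s⁻¹) = s * v * s⁻¹ * (s * e * s⁻¹) * (s * v * s⁻¹) := by rw [← h3]
        _ = s * (v * e * v) * s⁻¹ := by group
        _ = v * e * v := by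
          have hvf' : v * e * v = f := hvf
          rw [hvf']
          exact mul_inv_eq_iff_eq_mul.2 (hf.2 s hs).symm.eq)
    exact (mul_inv_eq_iff_eq_mul.1 h2).symm

/-- A member at a common fixed point commuting with both. -/
theorem exists_common {u t : G} (hu : orderOf u = 2) (ht : orderOf t = 2) (hut : Commute u t) {p : Ω}
    (hup : u • p = p) (htp : t • p = p) : (common D u t p).Nonempty := by
  by_contra hcon
  refine Nat.not_even_iff_odd.2 (h.odd_cdat hu hup) (even_ncard_of_invol (Set.toFinite _) (fun d => t * d * t⁻¹)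
    (fun d hd => ?_) (fun d _ => ?_) fun d hd e => hcon ⟨d, hd.1, hd.2, (mul_inv_eq_iff_eq_mul.1 e).symm⟩)
  · have := h.conj_cdat (g := t) hd
    rwa [htp, mul_inv_eq_iff_eq_mul.2 hut.symm.eq] at this
  · show t * (t * d * t⁻¹) * t⁻¹ = d
    rw [Invol.inv_self ht, ← mul_assoc, ← mul_assoc, Invol.mul_self ht, one_mul, mul_assoc, Invol.mul_self ht,
      mul_one]

/-- The four-group on the swappers of a pair. -/
theorem pair_count {x y : Ω} (hxy : x ≠ y) {u t : G} (hu : orderOf u = 2) (ht : orderOf t = 2)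
    (hut : Commute u t) (hne : u ≠ t) (hup : u ∈ pairSet x y) (htp : t ∈ pairSet x y) (z : Ω) :
    (dat D z).ncard * {d ∈ swap D x y | Commute d u ∧ Commute d t}.ncard ^ 2 =
      {d ∈ swap D x y | Commute d u}.ncard * {d ∈ swap D x y | Commute d t}.ncard *
        {d ∈ swap D x y | Commute d (u * t)}.ncard := by
  rw [← h.card_swap_eq hxy z]
  refine four_count (swapK D x y) (h.swapK_odd hxy) hu ht hut hne (h.pairSet_le_normalizer x y hup)
    (h.pairSet_le_normalizer x y htp) _ (Set.nonempty_of_ncard_ne_zero ?_)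
    (fun k hk d hd => h.conj_swap (stabilizer_le_pairSet x y (h.swapK_le x y hk)) hd)
    (fun d hd => h.conj_swap hup hd) (fun d hd => h.conj_swap htp hd) fun d hd e he => h.swapK_trans_swap hxy hd he
  rw [h.card_swap_eq hxy z]
  exact (h.odd z).pos.ne'

/-- At two common fixed points. -/
theorem chord_count {u t : G} (hu : orderOf u = 2) (ht : orderOf t = 2) (hut : Commute u t) (hne : u ≠ t)
    {a b : Ω} (hab : a ≠ b) (hua : u • a = a) (hub : u • b = b) (hta : t • a = a) (htb : t • b = b) :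
    (dat D a).ncard * (common D u t b).ncard ^ 2 =
      (cdat D u b).ncard * (cdat D t b).ncard * (cdat D (u * t) b).ncard := by
  obtain ⟨e, he, heu, het⟩ := h.exists_common hu ht hut hua hta
  have hpu : u ∈ pairSet a b := Or.inl ⟨hua, hub⟩
  have hpt : t ∈ pairSet a b := Or.inl ⟨hta, htb⟩
  have h1 : ∀ s, s ∈ pairSet a b → Commute e s → {d ∈ swap D a b | Commute d s}.ncard = (cdat D s b).ncard := by
    intro s hs hes
    have h := h.card_swap_comm hab {s} (by rintro _ rfl; exact hs) he (by rintro _ rfl; exact hes)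
    simp only [Set.mem_singleton_iff, forall_eq] at h
    exact h
  have h2 := h.card_swap_comm hab {u, t} (by rintro _ (rfl | rfl); exacts [hpu, hpt]) he
    (by rintro _ (rfl | rfl); exacts [heu, het])
  simp only [Set.mem_insert_iff, Set.mem_singleton_iff, forall_eq_or_imp, forall_eq] at h2
  rw [← h1 u hpu heu, ← h1 t hpt het, ← h1 (u * t) (mul_mem hpu hpt) (heu.mul_right het),
    show (common D u t b).ncard = _ from h2.symm]
  exact h.pair_count hab hu ht hut hne hpu hpt a

variable [FaithfulSMul G Ω]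

/-- At a pair `x, u x` inside the points of `t`. -/
theorem moved_count {u t : G} (hu : orderOf u = 2) (ht : orderOf t = 2) (hut : Commute u t) {x : Ω}
    (htx : t • x = x) (hux : u • x ≠ x) :
    (dat D x).ncard * (sigCom D u t x).ncard ^ 2 =
      (csig D u x).ncard * (cdat D t x).ncard * (csig D (u * t) x).ncard := by
  have hne : u ≠ t := fun e => hux (e ▸ htx)
  have hxy : x ≠ u • x := Ne.symm hux
  have hpu : u ∈ pairSet x (u • x) := Or.inr ⟨rfl, by rw [← mul_smul, Invol.mul_self hu, one_smul]⟩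
  have htux : t • u • x = u • x := by rw [← mul_smul, ← hut.eq, mul_smul, htx]
  have hpt : t ∈ pairSet x (u • x) := Or.inl ⟨htx, htux⟩
  obtain ⟨e, he⟩ := Set.nonempty_of_ncard_ne_zero (h.odd_cdat ht htx).pos.ne'
  have h2 := h.card_swap_comm hxy {t} (by rintro _ rfl; exact hpt) he.1 (by rintro _ rfl; exact he.2)
  simp only [Set.mem_singleton_iff, forall_eq] at h2
  have e1 : {d ∈ swap D x (u • x) | Commute d u} = csig D u x := by
    ext d; exact ⟨fun h => ⟨⟨h.1.1, h.2⟩, h.1.2⟩, fun h => ⟨⟨h.1.1, h.2⟩, h.1.2⟩⟩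
  have e2 : {d ∈ swap D x (u • x) | Commute d (u * t)} = csig D (u * t) x := by
    ext d
    have hx' : (u * t) • x = u • x := by rw [mul_smul, htx]
    exact ⟨fun h => ⟨⟨h.1.1, h.2⟩, h.1.2.trans hx'.symm⟩, fun h => ⟨⟨h.1.1, h.2.trans hx'⟩, h.1.2⟩⟩
  have e3 : {d ∈ swap D x (u • x) | Commute d u ∧ Commute d t} = sigCom D u t x := by
    ext d
    exact ⟨fun h => ⟨⟨⟨h.1.1, h.2.1⟩, h.1.2⟩, h.2.2⟩, fun h => ⟨⟨h.1.1.1, h.1.2⟩, h.1.1.2, h.2⟩⟩
  have h3 := h.pair_count hxy hu ht hut hne hpu hpt x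
  rw [e1, e2, e3, h2] at h3
  rwa [show {d ∈ dat D (u • x) | Commute d t} = cdat D t (u • x) from rfl,
    h.card_cdat_eq ht htux htx] at h3

variable (hB : Below.{u} (Nat.card G)) (hgen : closure D = ⊤)
include hB hgen

/-- The points of `t` off the chord, counted through the members commuting with both. -/
theorem chord_double {u t : G} (hu : orderOf u = 2)
    {k e : ℕ} (hC : Chord D Ω t u k e) {A R : ℕ}
    (hA : ∀ p : Ω, u • p = p → t • p = p → (common D u t p).ncard = A)
    (hR : ∀ x : Ω, t • x = x → u • x ≠ x → (sigCom D u t x).ncard = R) :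
    ((2 ^ k) ^ e - 2 ^ k) * R = (2 ^ k + 1) * A * 2 ^ k := by
  classical
  haveI : Nonempty Ω := by
    have := hC.card_inter
    exact ⟨(Set.nonempty_of_ncard_ne_zero (s := fixSet Ω t ∩ fixSet Ω u) (by rw [this]; exact Nat.succ_ne_zero _)).some⟩
  set s : Set G := {c ∈ cmem D u | Commute c t} with hs
  have key := Finset.sum_card_bipartiteAbove_eq_sum_card_bipartiteBelow (fun (d : G) (z : Ω) => d • z = u • z)
    (s := s.toFinite.toFinset) (t := (fixSet Ω t \ fixSet Ω u).toFinite.toFinset)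
  have hL : ∀ c ∈ s.toFinite.toFinset, (Finset.bipartiteAbove (fun (d : G) (z : Ω) => d • z = u • z)
      (fixSet Ω t \ fixSet Ω u).toFinite.toFinset c).card = 2 ^ k := by
    intro c hc
    rw [Set.Finite.mem_toFinset] at hc
    obtain ⟨p, hp⟩ := h.exists_fix (h.invol c hc.1.1)
    have hup := h.fix_of_cmem hc.1 hp
    have htp := h.fix_of_cmem (w := t) ⟨hc.1.1, hc.2⟩ hp
    have e : Finset.bipartiteAbove (fun (d : G) (z : Ω) => d • z = u • z)
        (fixSet Ω t \ fixSet Ω u).toFinite.toFinset c =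
        ((fixSet Ω t ∩ fixSet Ω (u * c)) \ {p}).toFinite.toFinset := by
      ext z
      rw [Finset.mem_bipartiteAbove, Set.Finite.mem_toFinset, Set.Finite.mem_toFinset]
      show ((t • z = z ∧ ¬ u • z = z) ∧ c • z = u • z) ↔ (t • z = z ∧ (u * c) • z = z) ∧ z ≠ p
      constructor
      · rintro ⟨⟨hz, huz⟩, hcz⟩
        exact ⟨⟨hz, by rw [mul_smul, hcz, ← mul_smul, Invol.mul_self hu, one_smul]⟩, fun e' => huz (e' ▸ hup)⟩
      · rintro ⟨⟨hz, hz2⟩, hzp⟩
        have hcz : c • z = u • z := by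
          have := congrArg (u • ·) hz2
          simpa [← mul_smul, ← mul_assoc, Invol.mul_self hu] using this
        exact ⟨⟨hz, fun e' => hzp (h.unique c hc.1.1 z p (hcz.trans e') hp)⟩, hcz⟩
    have hmem : p ∈ fixSet Ω t ∩ fixSet Ω (u * c) := ⟨htp, show (u * c) • p = p by rw [mul_smul, hp, hup]⟩
    rw [e, ← Set.ncard_eq_toFinset_card, Set.ncard_sdiff_singleton_of_mem hmem, hC.mul c ⟨hc.1.1, hc.2⟩ hc.1.2]
    exact Nat.add_sub_cancel _ _
  have hRr : ∀ z ∈ (fixSet Ω t \ fixSet Ω u).toFinite.toFinset,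
      (Finset.bipartiteBelow (fun (d : G) (z : Ω) => d • z = u • z) s.toFinite.toFinset z).card = R := by
    intro z hz
    rw [Set.Finite.mem_toFinset] at hz
    have e : Finset.bipartiteBelow (fun (d : G) (z : Ω) => d • z = u • z) s.toFinite.toFinset z =
        (sigCom D u t z).toFinite.toFinset := by
      ext d
      rw [Finset.mem_bipartiteBelow, Set.Finite.mem_toFinset, Set.Finite.mem_toFinset]
      exact ⟨fun h => ⟨⟨h.1.1, h.2⟩, h.1.2⟩, fun h => ⟨⟨h.1.1, h.2⟩, h.1.2⟩⟩
    rw [e, ← Set.ncard_eq_toFinset_card]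
    exact hR z hz.1 hz.2
  have hsc : s.ncard = (2 ^ k + 1) * A := by
    have hpt : ∀ d ∈ s, ∃ p : Ω, d • p = p := fun d hd => h.exists_fix (h.invol d hd.1.1)
    choose! f hf using hpt
    rw [← hC.card_inter, Set.ncard_eq_toFinset_card s (Set.toFinite _),
      Finset.card_eq_sum_card_fiberwise (f := f) (t := (fixSet Ω t ∩ fixSet Ω u).toFinite.toFinset) fun d hd => by
        rw [Finset.mem_coe, Set.Finite.mem_toFinset] at hd ⊢
        exact ⟨h.fix_of_cmem (w := t) ⟨hd.1.1, hd.2⟩ (hf d hd), h.fix_of_cmem hd.1 (hf d hd)⟩]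
    have hfib : ∀ p ∈ (fixSet Ω t ∩ fixSet Ω u).toFinite.toFinset,
        (s.toFinite.toFinset.filter fun d => f d = p).card = A := by
      intro p hp
      rw [Set.Finite.mem_toFinset] at hp
      have e : (s.toFinite.toFinset.filter fun d => f d = p) = (common D u t p).toFinite.toFinset := by
        ext d
        rw [Finset.mem_filter, Set.Finite.mem_toFinset, Set.Finite.mem_toFinset]
        exact ⟨fun hd => ⟨⟨hd.1.1.1, hd.2 ▸ hf d hd.1⟩, hd.1.1.2, hd.1.2⟩,
          fun hd => ⟨⟨⟨hd.1.1, hd.2.1⟩, hd.2.2⟩,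
            h.unique d hd.1.1 _ _ (hf d ⟨⟨hd.1.1, hd.2.1⟩, hd.2.2⟩) hd.1.2⟩⟩
      rw [e, ← Set.ncard_eq_toFinset_card]
      exact hA p hp.2 hp.1
    rw [Finset.sum_congr rfl hfib, Finset.sum_const, smul_eq_mul,
      Set.ncard_eq_toFinset_card (fixSet Ω t ∩ fixSet Ω u)]
  rw [Finset.sum_congr rfl hL, Finset.sum_congr rfl hRr, Finset.sum_const, Finset.sum_const, smul_eq_mul,
    smul_eq_mul, ← Set.ncard_eq_toFinset_card, ← Set.ncard_eq_toFinset_card, hsc] at key
  have hd : (fixSet Ω t \ fixSet Ω u).ncard = (2 ^ k) ^ e - 2 ^ k := by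
    have h1 := Set.ncard_inter_add_ncard_sdiff_eq_ncard (fixSet Ω t) (fixSet Ω u) (Set.toFinite _)
    rw [hC.card_inter, hC.card_fix] at h1
    omega
  rw [hd] at key
  exact key.symm

end Crit

end Cfsg.Agent.GoodInvol
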